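import Mathlib
import Cfsg.Agent.Lib.helper17.T3.Defs
import Cfsg.Agent.Lib.helper23.TD4V.Defs
import Cfsg.Agent.Lib.helper8.ChevTw8

/-!
# Project T3M (designer helper8): the matrix side of **S2110** (`M(³D₄(q)) = 1`) — definitions

`K` a field, `q : ℕ`, `G = twistedD4 K q ≤ GG K = GL chevD4.Idx K`, `X r t = x_r(t)` (helper23.TD4V).

* `Dat K q` : a ring endomorphism `f` of `K` with `f x = x ^ q` and `f (f (f x)) = x`  (exists when `|K| = q ^ 3`: `Dat.exists`);
* `D.Fx : Subfield K` : the fixed field of `f`; `D.cub : Cub ↥D.Fx K` helper17's cubic datum (`θ = f`, `tr x = x + f x + f² x`,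
  `nm x = x * f x * f² x`);
* `XS3 k a b c` (`k = 0 … 5`) : the product over the triality orbit belonging to the short root `2k` of the twisted root system,
  with three INDEPENDENT parameters; `XL3 k c` : the long root element of the root `2k + 1`, parameter in `K`;
* `XS D k t = XS3 k.val t (f t) (f (f t))`, `XL D k c = XL3 k.val c` (`k : ZMod 6`, `c : ↥D.Fx`) : the root elements of
  helper17's `SysT` in `GG K`.
-/

set_option autoImplicit false

namespace Cfsg.Agent.Lib.helper8.T3M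

open Cfsg.Lie Cfsg.Lie.ChevalleyDatum Matrix
open Cfsg.Agent.Lib.helper8
open Cfsg.Agent.Lib.helper23.TD4V
open Cfsg.Agent.Lib.helper17.T3

universe u

/-- the datum: a ring endomorphism `f` of `K` with `f x = x ^ q` and `f³ = id` -/
structure Dat (K : Type u) [Field K] (q : ℕ) where
  f : K →+* K
  hf : ∀ x, f x = x ^ q
  h3 : ∀ x, f (f (f x)) = x

variable {K : Type u} [Field K] {q : ℕ}

theorem Dat.exists [Fintype K] (hq : IsPrimePow q) (hK : Fintype.card K = q ^ 3) : Nonempty (Dat K q) := by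
  obtain ⟨f, h1, h2, -⟩ := h8frob_exists hq 3 (by norm_num) hK
  exact ⟨⟨(f : K →+* K), h1, fun x => h2 x⟩⟩

/-- the fixed field of `f` -/
def Dat.Fx (D : Dat K q) : Subfield K := RingHom.eqLocusField D.f (RingHom.id K)

theorem Dat.mem_Fx (D : Dat K q) (c : K) : c ∈ D.Fx ↔ D.f c = c := Iff.rfl

theorem Dat.f_coe (D : Dat K q) (c : D.Fx) : D.f (c : K) = c := c.2

/-- the trace, with values in the fixed field -/
def Dat.tr (D : Dat K q) (x : K) : D.Fx :=
  ⟨x + D.f x + D.f (D.f x), by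
    rw [Dat.mem_Fx, map_add, map_add, D.h3]; ring⟩

/-- the norm, with values in the fixed field -/
def Dat.nm (D : Dat K q) (x : K) : D.Fx :=
  ⟨x * D.f x * D.f (D.f x), by
    rw [Dat.mem_Fx, map_mul, map_mul, D.h3]; ring⟩

/-- helper17's cubic datum of `(K, f)` -/
def Dat.cub (D : Dat K q) : Cub D.Fx K where
  θ := D.f
  θ3 := D.h3
  θF := fun c => c.2
  tr := D.tr
  nm := D.nm
  htr := fun _ => rfl
  hnm := fun _ => rfl

theorem Dat.cub_θ (D : Dat K q) (x : K) : D.cub.θ x = D.f x := rfl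

theorem Dat.cub_tr (D : Dat K q) (x : K) : ((D.cub.tr x : D.Fx) : K) = x + D.f x + D.f (D.f x) := rfl

theorem Dat.cub_nm (D : Dat K q) (x : K) : ((D.cub.nm x : D.Fx) : K) = x * D.f x * D.f (D.f x) := rfl

theorem Dat.cub_sharp (D : Dat K q) (x : K) : D.cub.sharp x = D.f x * D.f (D.f x) := rfl

theorem Dat.cub_cross (D : Dat K q) (x y : K) :
    D.cub.cross x y = D.f x * D.f (D.f y) + D.f (D.f x) * D.f y := rfl

theorem Dat.smul_def (D : Dat K q) (c : D.Fx) (x : K) : c • x = (c : K) * x := rfl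

/-- the product over the orbit of the short root `2k`, with three independent parameters -/
def XS3 (k : ℕ) (a b c : K) : GG K :=
  match k with
  | 0 => X 18 a * X 13 b * X 12 c
  | 1 => X 20 (-b) * X 21 (-c) * X 17 a
  | 2 => X 19 (-a) * X 16 b * X 15 c
  | 3 => X 5 (-a) * X 10 (-b) * X 11 (-c)
  | 4 => X 3 b * X 2 c * X 6 (-a)
  | 5 => X 4 a * X 7 (-b) * X 8 (-c)
  | _ => 1

/-- the long root element of the root `2k + 1` -/
def XL3 (k : ℕ) (c : K) : GG K :=
  match k with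
  | 0 => X 22 c
  | 1 => X 23 c
  | 2 => X 14 (-c)
  | 3 => X 1 (-c)
  | 4 => X 0 (-c)
  | 5 => X 9 c
  | _ => 1

theorem XS3_0 (a b c : K) : XS3 0 a b c = X 18 a * X 13 b * X 12 c := rfl
theorem XS3_1 (a b c : K) : XS3 1 a b c = X 20 (-b) * X 21 (-c) * X 17 a := rfl
theorem XS3_2 (a b c : K) : XS3 2 a b c = X 19 (-a) * X 16 b * X 15 c := rfl
theorem XS3_3 (a b c : K) : XS3 3 a b c = X 5 (-a) * X 10 (-b) * X 11 (-c) := rfl
theorem XS3_4 (a b c : K) : XS3 4 a b c = X 3 b * X 2 c * X 6 (-a) := rfl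
theorem XS3_5 (a b c : K) : XS3 5 a b c = X 4 a * X 7 (-b) * X 8 (-c) := rfl
theorem XL3_0 (c : K) : XL3 0 c = X 22 c := rfl
theorem XL3_1 (c : K) : XL3 1 c = X 23 c := rfl
theorem XL3_2 (c : K) : XL3 2 c = X 14 (-c) := rfl
theorem XL3_3 (c : K) : XL3 3 c = X 1 (-c) := rfl
theorem XL3_4 (c : K) : XL3 4 c = X 0 (-c) := rfl
theorem XL3_5 (c : K) : XL3 5 c = X 9 c := rfl

/-- the short root element `xs k t` of helper17's system, in `GG K` -/
def XS (D : Dat K q) (k : ZMod 6) (t : K) : GG K := XS3 k.val t (D.f t) (D.f (D.f t))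

/-- the long root element `xl k c` of helper17's system, in `GG K` -/
def XL (D : Dat K q) (k : ZMod 6) (c : D.Fx) : GG K := XL3 k.val (c : K)

theorem XS_def (D : Dat K q) (k : ZMod 6) (t : K) : XS D k t = XS3 k.val t (D.f t) (D.f (D.f t)) := rfl

theorem XL_def (D : Dat K q) (k : ZMod 6) (c : D.Fx) : XL D k c = XL3 k.val (c : K) := rfl

theorem Dat.f_ne_zero (D : Dat K q) {t : K} (ht : t ≠ 0) : D.f t ≠ 0 := (map_ne_zero D.f).2 ht

theorem Dat.coe_ne_zero (D : Dat K q) {c : D.Fx} (hc : c ≠ 0) : (c : K) ≠ 0 := fun h => hc (Subtype.ext h)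

theorem t3m_cm_iff {G : Type*} [Group G] {a b r : G} :
    Cfsg.Agent.Lib.helper7.Ce.cm a b = r ↔ a * b = r * b * a := by
  unfold Cfsg.Agent.Lib.helper7.Ce.cm
  constructor
  · intro h; rw [← h]; group
  · intro h; rw [h]; group

theorem t3m_cj_iff {G : Type*} [Group G] {g a r : G} :
    Cfsg.Agent.Lib.helper15.St2.cj g a = r ↔ g * a = r * g := by
  unfold Cfsg.Agent.Lib.helper15.St2.cj
  constructor
  · intro h; rw [← h]; group
  · intro h; rw [h]; group

theorem val6_0 : (0 : ZMod 6).val = 0 := rfl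
theorem val6_1 : (1 : ZMod 6).val = 1 := rfl
theorem val6_2 : (2 : ZMod 6).val = 2 := rfl
theorem val6_3 : (3 : ZMod 6).val = 3 := rfl
theorem val6_4 : (4 : ZMod 6).val = 4 := rfl
theorem val6_5 : (5 : ZMod 6).val = 5 := rfl

end Cfsg.Agent.Lib.helper8.T3M
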