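import Mathlib
import Cfsg.Agent.Lib.helper8.T3MColl
import Cfsg.Agent.Lib.helper8.T3M.Defs

/-!
# Project T3M (matrix side of S2110; designer helper8): generic identities, family `adds` (machine generated)

Identities in `D₄(K)` between the orbit products `XS3 k a b c` (three INDEPENDENT parameters) and the long root elements `XL3 k c`;
the parameters of the result are variables `p_i` with hypotheses `p_i = …`.
Specialised at `(a, b, c) = (t, f t, f (f t))` they give the relations of helper17's `SysT` for `³D₄(q)` (files `R_*`).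
-/

set_option autoImplicit false
set_option linter.unusedSimpArgs false
set_option linter.unnecessarySeqFocus false
set_option linter.unreachableTactic false
set_option linter.unusedTactic false
set_option linter.unusedVariables false
set_option maxRecDepth 4000

namespace Cfsg.Agent.Lib.helper8.T3M

open Cfsg.Lie Cfsg.Lie.ChevalleyDatum Matrix
open Cfsg.Agent.Lib.helper8
open Cfsg.Agent.Lib.helper23.TD4V

universe u

variable {K : Type u} [Field K]

attribute [local irreducible] X

set_option maxHeartbeats 1600000 in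
theorem t3mg_adds_0 (s0 s1 s2 t0 t1 t2 : K) {p1 p2 p3 : K}  (hp1 : p1 = (s0 + t0)) (hp2 : p2 = (s1 + t1)) (hp3 : p3 = (s2 + t2)) :
    (XS3 0 s0 s1 s2 * XS3 0 t0 t1 t2 : GG K) =
      XS3 0 p1 p2 p3 := by
  have key : (XS3 0 s0 s1 s2 * XS3 0 t0 t1 t2 : GG K) * 1 = (XS3 0 p1 p2 p3) * 1 := by
    subst hp1 hp2 hp3
    simp only [XS3_0, mul_assoc, t3mc_t_12_13, t3mc_t_12_18, t3mc_t_13_18, t3mc_m_12, t3mc_m_13, t3mc_m_18] <;>
    repeat (first
      | with_reducible rfl
      | refine t3mc_cs (by first | rfl | ring1 | (field_simp; ring1) | (field_simp; first | done | fail)) ?_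
      | refine t3mc_skL (by first | rfl | ring1 | (field_simp; ring1) | (field_simp; first | done | fail)) ?_
      | refine t3mc_skR (by first | rfl | ring1 | (field_simp; ring1) | (field_simp; first | done | fail)) ?_)
  exact (mul_one _).symm.trans (key.trans (mul_one _))

set_option maxHeartbeats 1600000 in
theorem t3mg_adds_1 (s0 s1 s2 t0 t1 t2 : K) {p1 p2 p3 : K}  (hp1 : p1 = (s0 + t0)) (hp2 : p2 = (s1 + t1)) (hp3 : p3 = (s2 + t2)) :
    (XS3 1 s0 s1 s2 * XS3 1 t0 t1 t2 : GG K) =
      XS3 1 p1 p2 p3 := by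
  have key : (XS3 1 s0 s1 s2 * XS3 1 t0 t1 t2 : GG K) * 1 = (XS3 1 p1 p2 p3) * 1 := by
    subst hp1 hp2 hp3
    simp only [XS3_1, mul_assoc, t3mc_t_17_20, t3mc_t_17_21, t3mc_t_20_21, t3mc_m_17, t3mc_m_20, t3mc_m_21] <;>
    repeat (first
      | with_reducible rfl
      | refine t3mc_cs (by first | rfl | ring1 | (field_simp; ring1) | (field_simp; first | done | fail)) ?_
      | refine t3mc_skL (by first | rfl | ring1 | (field_simp; ring1) | (field_simp; first | done | fail)) ?_
      | refine t3mc_skR (by first | rfl | ring1 | (field_simp; ring1) | (field_simp; first | done | fail)) ?_)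
  exact (mul_one _).symm.trans (key.trans (mul_one _))

set_option maxHeartbeats 1600000 in
theorem t3mg_adds_2 (s0 s1 s2 t0 t1 t2 : K) {p1 p2 p3 : K}  (hp1 : p1 = (s0 + t0)) (hp2 : p2 = (s1 + t1)) (hp3 : p3 = (s2 + t2)) :
    (XS3 2 s0 s1 s2 * XS3 2 t0 t1 t2 : GG K) =
      XS3 2 p1 p2 p3 := by
  have key : (XS3 2 s0 s1 s2 * XS3 2 t0 t1 t2 : GG K) * 1 = (XS3 2 p1 p2 p3) * 1 := by
    subst hp1 hp2 hp3
    simp only [XS3_2, mul_assoc, t3mc_t_15_16, t3mc_t_15_19, t3mc_t_16_19, t3mc_m_15, t3mc_m_16, t3mc_m_19] <;>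
    repeat (first
      | with_reducible rfl
      | refine t3mc_cs (by first | rfl | ring1 | (field_simp; ring1) | (field_simp; first | done | fail)) ?_
      | refine t3mc_skL (by first | rfl | ring1 | (field_simp; ring1) | (field_simp; first | done | fail)) ?_
      | refine t3mc_skR (by first | rfl | ring1 | (field_simp; ring1) | (field_simp; first | done | fail)) ?_)
  exact (mul_one _).symm.trans (key.trans (mul_one _))

set_option maxHeartbeats 1600000 in
theorem t3mg_adds_3 (s0 s1 s2 t0 t1 t2 : K) {p1 p2 p3 : K}  (hp1 : p1 = (s0 + t0)) (hp2 : p2 = (s1 + t1)) (hp3 : p3 = (s2 + t2)) :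
    (XS3 3 s0 s1 s2 * XS3 3 t0 t1 t2 : GG K) =
      XS3 3 p1 p2 p3 := by
  have key : (XS3 3 s0 s1 s2 * XS3 3 t0 t1 t2 : GG K) * 1 = (XS3 3 p1 p2 p3) * 1 := by
    subst hp1 hp2 hp3
    simp only [XS3_3, mul_assoc, t3mc_t_5_10, t3mc_t_5_11, t3mc_t_10_11, t3mc_m_5, t3mc_m_10, t3mc_m_11] <;>
    repeat (first
      | with_reducible rfl
      | refine t3mc_cs (by first | rfl | ring1 | (field_simp; ring1) | (field_simp; first | done | fail)) ?_
      | refine t3mc_skL (by first | rfl | ring1 | (field_simp; ring1) | (field_simp; first | done | fail)) ?_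
      | refine t3mc_skR (by first | rfl | ring1 | (field_simp; ring1) | (field_simp; first | done | fail)) ?_)
  exact (mul_one _).symm.trans (key.trans (mul_one _))

set_option maxHeartbeats 1600000 in
theorem t3mg_adds_4 (s0 s1 s2 t0 t1 t2 : K) {p1 p2 p3 : K}  (hp1 : p1 = (s0 + t0)) (hp2 : p2 = (s1 + t1)) (hp3 : p3 = (s2 + t2)) :
    (XS3 4 s0 s1 s2 * XS3 4 t0 t1 t2 : GG K) =
      XS3 4 p1 p2 p3 := by
  have key : (XS3 4 s0 s1 s2 * XS3 4 t0 t1 t2 : GG K) * 1 = (XS3 4 p1 p2 p3) * 1 := by
    subst hp1 hp2 hp3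
    simp only [XS3_4, mul_assoc, t3mc_t_2_3, t3mc_t_2_6, t3mc_t_3_6, t3mc_m_2, t3mc_m_3, t3mc_m_6] <;>
    repeat (first
      | with_reducible rfl
      | refine t3mc_cs (by first | rfl | ring1 | (field_simp; ring1) | (field_simp; first | done | fail)) ?_
      | refine t3mc_skL (by first | rfl | ring1 | (field_simp; ring1) | (field_simp; first | done | fail)) ?_
      | refine t3mc_skR (by first | rfl | ring1 | (field_simp; ring1) | (field_simp; first | done | fail)) ?_)
  exact (mul_one _).symm.trans (key.trans (mul_one _))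

set_option maxHeartbeats 1600000 in
theorem t3mg_adds_5 (s0 s1 s2 t0 t1 t2 : K) {p1 p2 p3 : K}  (hp1 : p1 = (s0 + t0)) (hp2 : p2 = (s1 + t1)) (hp3 : p3 = (s2 + t2)) :
    (XS3 5 s0 s1 s2 * XS3 5 t0 t1 t2 : GG K) =
      XS3 5 p1 p2 p3 := by
  have key : (XS3 5 s0 s1 s2 * XS3 5 t0 t1 t2 : GG K) * 1 = (XS3 5 p1 p2 p3) * 1 := by
    subst hp1 hp2 hp3
    simp only [XS3_5, mul_assoc, t3mc_t_4_7, t3mc_t_4_8, t3mc_t_7_8, t3mc_m_4, t3mc_m_7, t3mc_m_8] <;>
    repeat (first
      | with_reducible rfl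
      | refine t3mc_cs (by first | rfl | ring1 | (field_simp; ring1) | (field_simp; first | done | fail)) ?_
      | refine t3mc_skL (by first | rfl | ring1 | (field_simp; ring1) | (field_simp; first | done | fail)) ?_
      | refine t3mc_skR (by first | rfl | ring1 | (field_simp; ring1) | (field_simp; first | done | fail)) ?_)
  exact (mul_one _).symm.trans (key.trans (mul_one _))

end Cfsg.Agent.Lib.helper8.T3M
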