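import Mathlib
import Cfsg.Agent.Lib.helper8.T3M.G_adds

/-!
# Project T3M (matrix side of S2110; designer helper8): the relations `adds` of helper17's `SysT` in `GG K`, `k = 0 … 5` (machine generated)
-/

set_option autoImplicit false
set_option linter.unusedSimpArgs false
set_option linter.unnecessarySeqFocus false
set_option linter.unreachableTactic false
set_option linter.unusedTactic false
set_option linter.unusedVariables false

namespace Cfsg.Agent.Lib.helper8.T3M

open Cfsg.Lie Cfsg.Lie.ChevalleyDatum Matrix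
open Cfsg.Agent.Lib.helper8
open Cfsg.Agent.Lib.helper23.TD4V
open Cfsg.Agent.Lib.helper17.T3
open Cfsg.Agent.Lib.helper15.St2 Cfsg.Agent.Lib.helper7.Ce

universe u

variable {K : Type u} [Field K] {q : ℕ}

theorem t3m_adds_0 (D : Dat K q) (s t : K) :
    XS D 0 s * XS D 0 t = XS D 0 (s + t) := by
  simp only [XS_def, XL_def, val6_0, val6_1, val6_2, val6_3, val6_4, val6_5]
  exact t3mg_adds_0 s (D.f s) (D.f (D.f s)) t (D.f t) (D.f (D.f t)) 
    (by first | rfl | (simp only [Dat.cub_tr, Dat.cub_nm, Dat.cub_sharp, Dat.cub_cross, Dat.smul_def, Dat.cub_θ, Subfield.coe_neg, Subfield.coe_mul, Subfield.coe_add, Subfield.coe_inv, SubmonoidClass.coe_pow, map_mul, map_add, map_neg, map_inv₀, map_pow, D.h3, D.f_coe] <;> first | rfl | ring1 | (field_simp; ring1) | (field_simp; first | done | fail)))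
    (by first | rfl | (simp only [Dat.cub_tr, Dat.cub_nm, Dat.cub_sharp, Dat.cub_cross, Dat.smul_def, Dat.cub_θ, Subfield.coe_neg, Subfield.coe_mul, Subfield.coe_add, Subfield.coe_inv, SubmonoidClass.coe_pow, map_mul, map_add, map_neg, map_inv₀, map_pow, D.h3, D.f_coe] <;> first | rfl | ring1 | (field_simp; ring1) | (field_simp; first | done | fail)))
    (by first | rfl | (simp only [Dat.cub_tr, Dat.cub_nm, Dat.cub_sharp, Dat.cub_cross, Dat.smul_def, Dat.cub_θ, Subfield.coe_neg, Subfield.coe_mul, Subfield.coe_add, Subfield.coe_inv, SubmonoidClass.coe_pow, map_mul, map_add, map_neg, map_inv₀, map_pow, D.h3, D.f_coe] <;> first | rfl | ring1 | (field_simp; ring1) | (field_simp; first | done | fail)))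

theorem t3m_adds_1 (D : Dat K q) (s t : K) :
    XS D 1 s * XS D 1 t = XS D 1 (s + t) := by
  simp only [XS_def, XL_def, val6_0, val6_1, val6_2, val6_3, val6_4, val6_5]
  exact t3mg_adds_1 s (D.f s) (D.f (D.f s)) t (D.f t) (D.f (D.f t)) 
    (by first | rfl | (simp only [Dat.cub_tr, Dat.cub_nm, Dat.cub_sharp, Dat.cub_cross, Dat.smul_def, Dat.cub_θ, Subfield.coe_neg, Subfield.coe_mul, Subfield.coe_add, Subfield.coe_inv, SubmonoidClass.coe_pow, map_mul, map_add, map_neg, map_inv₀, map_pow, D.h3, D.f_coe] <;> first | rfl | ring1 | (field_simp; ring1) | (field_simp; first | done | fail)))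
    (by first | rfl | (simp only [Dat.cub_tr, Dat.cub_nm, Dat.cub_sharp, Dat.cub_cross, Dat.smul_def, Dat.cub_θ, Subfield.coe_neg, Subfield.coe_mul, Subfield.coe_add, Subfield.coe_inv, SubmonoidClass.coe_pow, map_mul, map_add, map_neg, map_inv₀, map_pow, D.h3, D.f_coe] <;> first | rfl | ring1 | (field_simp; ring1) | (field_simp; first | done | fail)))
    (by first | rfl | (simp only [Dat.cub_tr, Dat.cub_nm, Dat.cub_sharp, Dat.cub_cross, Dat.smul_def, Dat.cub_θ, Subfield.coe_neg, Subfield.coe_mul, Subfield.coe_add, Subfield.coe_inv, SubmonoidClass.coe_pow, map_mul, map_add, map_neg, map_inv₀, map_pow, D.h3, D.f_coe] <;> first | rfl | ring1 | (field_simp; ring1) | (field_simp; first | done | fail)))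

theorem t3m_adds_2 (D : Dat K q) (s t : K) :
    XS D 2 s * XS D 2 t = XS D 2 (s + t) := by
  simp only [XS_def, XL_def, val6_0, val6_1, val6_2, val6_3, val6_4, val6_5]
  exact t3mg_adds_2 s (D.f s) (D.f (D.f s)) t (D.f t) (D.f (D.f t)) 
    (by first | rfl | (simp only [Dat.cub_tr, Dat.cub_nm, Dat.cub_sharp, Dat.cub_cross, Dat.smul_def, Dat.cub_θ, Subfield.coe_neg, Subfield.coe_mul, Subfield.coe_add, Subfield.coe_inv, SubmonoidClass.coe_pow, map_mul, map_add, map_neg, map_inv₀, map_pow, D.h3, D.f_coe] <;> first | rfl | ring1 | (field_simp; ring1) | (field_simp; first | done | fail)))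
    (by first | rfl | (simp only [Dat.cub_tr, Dat.cub_nm, Dat.cub_sharp, Dat.cub_cross, Dat.smul_def, Dat.cub_θ, Subfield.coe_neg, Subfield.coe_mul, Subfield.coe_add, Subfield.coe_inv, SubmonoidClass.coe_pow, map_mul, map_add, map_neg, map_inv₀, map_pow, D.h3, D.f_coe] <;> first | rfl | ring1 | (field_simp; ring1) | (field_simp; first | done | fail)))
    (by first | rfl | (simp only [Dat.cub_tr, Dat.cub_nm, Dat.cub_sharp, Dat.cub_cross, Dat.smul_def, Dat.cub_θ, Subfield.coe_neg, Subfield.coe_mul, Subfield.coe_add, Subfield.coe_inv, SubmonoidClass.coe_pow, map_mul, map_add, map_neg, map_inv₀, map_pow, D.h3, D.f_coe] <;> first | rfl | ring1 | (field_simp; ring1) | (field_simp; first | done | fail)))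

theorem t3m_adds_3 (D : Dat K q) (s t : K) :
    XS D 3 s * XS D 3 t = XS D 3 (s + t) := by
  simp only [XS_def, XL_def, val6_0, val6_1, val6_2, val6_3, val6_4, val6_5]
  exact t3mg_adds_3 s (D.f s) (D.f (D.f s)) t (D.f t) (D.f (D.f t)) 
    (by first | rfl | (simp only [Dat.cub_tr, Dat.cub_nm, Dat.cub_sharp, Dat.cub_cross, Dat.smul_def, Dat.cub_θ, Subfield.coe_neg, Subfield.coe_mul, Subfield.coe_add, Subfield.coe_inv, SubmonoidClass.coe_pow, map_mul, map_add, map_neg, map_inv₀, map_pow, D.h3, D.f_coe] <;> first | rfl | ring1 | (field_simp; ring1) | (field_simp; first | done | fail)))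
    (by first | rfl | (simp only [Dat.cub_tr, Dat.cub_nm, Dat.cub_sharp, Dat.cub_cross, Dat.smul_def, Dat.cub_θ, Subfield.coe_neg, Subfield.coe_mul, Subfield.coe_add, Subfield.coe_inv, SubmonoidClass.coe_pow, map_mul, map_add, map_neg, map_inv₀, map_pow, D.h3, D.f_coe] <;> first | rfl | ring1 | (field_simp; ring1) | (field_simp; first | done | fail)))
    (by first | rfl | (simp only [Dat.cub_tr, Dat.cub_nm, Dat.cub_sharp, Dat.cub_cross, Dat.smul_def, Dat.cub_θ, Subfield.coe_neg, Subfield.coe_mul, Subfield.coe_add, Subfield.coe_inv, SubmonoidClass.coe_pow, map_mul, map_add, map_neg, map_inv₀, map_pow, D.h3, D.f_coe] <;> first | rfl | ring1 | (field_simp; ring1) | (field_simp; first | done | fail)))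

theorem t3m_adds_4 (D : Dat K q) (s t : K) :
    XS D 4 s * XS D 4 t = XS D 4 (s + t) := by
  simp only [XS_def, XL_def, val6_0, val6_1, val6_2, val6_3, val6_4, val6_5]
  exact t3mg_adds_4 s (D.f s) (D.f (D.f s)) t (D.f t) (D.f (D.f t)) 
    (by first | rfl | (simp only [Dat.cub_tr, Dat.cub_nm, Dat.cub_sharp, Dat.cub_cross, Dat.smul_def, Dat.cub_θ, Subfield.coe_neg, Subfield.coe_mul, Subfield.coe_add, Subfield.coe_inv, SubmonoidClass.coe_pow, map_mul, map_add, map_neg, map_inv₀, map_pow, D.h3, D.f_coe] <;> first | rfl | ring1 | (field_simp; ring1) | (field_simp; first | done | fail)))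
    (by first | rfl | (simp only [Dat.cub_tr, Dat.cub_nm, Dat.cub_sharp, Dat.cub_cross, Dat.smul_def, Dat.cub_θ, Subfield.coe_neg, Subfield.coe_mul, Subfield.coe_add, Subfield.coe_inv, SubmonoidClass.coe_pow, map_mul, map_add, map_neg, map_inv₀, map_pow, D.h3, D.f_coe] <;> first | rfl | ring1 | (field_simp; ring1) | (field_simp; first | done | fail)))
    (by first | rfl | (simp only [Dat.cub_tr, Dat.cub_nm, Dat.cub_sharp, Dat.cub_cross, Dat.smul_def, Dat.cub_θ, Subfield.coe_neg, Subfield.coe_mul, Subfield.coe_add, Subfield.coe_inv, SubmonoidClass.coe_pow, map_mul, map_add, map_neg, map_inv₀, map_pow, D.h3, D.f_coe] <;> first | rfl | ring1 | (field_simp; ring1) | (field_simp; first | done | fail)))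

theorem t3m_adds_5 (D : Dat K q) (s t : K) :
    XS D 5 s * XS D 5 t = XS D 5 (s + t) := by
  simp only [XS_def, XL_def, val6_0, val6_1, val6_2, val6_3, val6_4, val6_5]
  exact t3mg_adds_5 s (D.f s) (D.f (D.f s)) t (D.f t) (D.f (D.f t)) 
    (by first | rfl | (simp only [Dat.cub_tr, Dat.cub_nm, Dat.cub_sharp, Dat.cub_cross, Dat.smul_def, Dat.cub_θ, Subfield.coe_neg, Subfield.coe_mul, Subfield.coe_add, Subfield.coe_inv, SubmonoidClass.coe_pow, map_mul, map_add, map_neg, map_inv₀, map_pow, D.h3, D.f_coe] <;> first | rfl | ring1 | (field_simp; ring1) | (field_simp; first | done | fail)))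
    (by first | rfl | (simp only [Dat.cub_tr, Dat.cub_nm, Dat.cub_sharp, Dat.cub_cross, Dat.smul_def, Dat.cub_θ, Subfield.coe_neg, Subfield.coe_mul, Subfield.coe_add, Subfield.coe_inv, SubmonoidClass.coe_pow, map_mul, map_add, map_neg, map_inv₀, map_pow, D.h3, D.f_coe] <;> first | rfl | ring1 | (field_simp; ring1) | (field_simp; first | done | fail)))
    (by first | rfl | (simp only [Dat.cub_tr, Dat.cub_nm, Dat.cub_sharp, Dat.cub_cross, Dat.smul_def, Dat.cub_θ, Subfield.coe_neg, Subfield.coe_mul, Subfield.coe_add, Subfield.coe_inv, SubmonoidClass.coe_pow, map_mul, map_add, map_neg, map_inv₀, map_pow, D.h3, D.f_coe] <;> first | rfl | ring1 | (field_simp; ring1) | (field_simp; first | done | fail)))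

end Cfsg.Agent.Lib.helper8.T3M
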