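import Mathlib
import Cfsg.Agent.Lib.helper8.T3MColl
import Cfsg.Agent.Lib.helper8.T3M.Defs

/-!
# Project T3M (matrix side of S2110; designer helper8): generic identities, family `c_ll1` (machine generated)

Identities in `D₄(K)` between the orbit products `XS3 k a b c` (three INDEPENDENT parameters) and the long root elements `XL3 k c`;
the parameters of the result are variables `p_i` with hypotheses `p_i = …`.
Specialised at `(a, b, c) = (t, f t, f (f t))` they give the relations of helper17's `SysT` for `³D₄(q)` (files `R_*`).
-/

set_option autoImplicit false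
set_option linter.unusedSimpArgs false
set_option linter.unnecessarySeqFocus false
set_option linter.unreachableTactic false
set_option linter.unusedTactic false
set_option linter.unusedVariables false
set_option maxRecDepth 4000

namespace Cfsg.Agent.Lib.helper8.T3M

open Cfsg.Lie Cfsg.Lie.ChevalleyDatum Matrix
open Cfsg.Agent.Lib.helper8
open Cfsg.Agent.Lib.helper23.TD4V

universe u

variable {K : Type u} [Field K]

attribute [local irreducible] X

set_option maxHeartbeats 1600000 in
theorem t3mg_c_ll1_0 (c d : K)   :
    (XL3 0 c * XL3 1 d : GG K) =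
      XL3 1 d * XL3 0 c := by
  have key : (XL3 0 c * XL3 1 d : GG K) * 1 = (XL3 1 d * XL3 0 c) * 1 := by
    simp only [XL3_0, XL3_1, mul_assoc, t3mc_t_22_23, t3mc_m_22, t3mc_m_23] <;>
    repeat (first
      | with_reducible rfl
      | refine t3mc_cs (by first | rfl | ring1 | (field_simp; ring1) | (field_simp; first | done | fail)) ?_
      | refine t3mc_skL (by first | rfl | ring1 | (field_simp; ring1) | (field_simp; first | done | fail)) ?_
      | refine t3mc_skR (by first | rfl | ring1 | (field_simp; ring1) | (field_simp; first | done | fail)) ?_)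
  exact (mul_one _).symm.trans (key.trans (mul_one _))

set_option maxHeartbeats 1600000 in
theorem t3mg_c_ll1_1 (c d : K)   :
    (XL3 1 c * XL3 2 d : GG K) =
      XL3 2 d * XL3 1 c := by
  have key : (XL3 1 c * XL3 2 d : GG K) * 1 = (XL3 2 d * XL3 1 c) * 1 := by
    simp only [XL3_1, XL3_2, mul_assoc, t3mc_t_14_23, t3mc_m_14, t3mc_m_23] <;>
    repeat (first
      | with_reducible rfl
      | refine t3mc_cs (by first | rfl | ring1 | (field_simp; ring1) | (field_simp; first | done | fail)) ?_
      | refine t3mc_skL (by first | rfl | ring1 | (field_simp; ring1) | (field_simp; first | done | fail)) ?_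
      | refine t3mc_skR (by first | rfl | ring1 | (field_simp; ring1) | (field_simp; first | done | fail)) ?_)
  exact (mul_one _).symm.trans (key.trans (mul_one _))

set_option maxHeartbeats 1600000 in
theorem t3mg_c_ll1_2 (c d : K)   :
    (XL3 2 c * XL3 3 d : GG K) =
      XL3 3 d * XL3 2 c := by
  have key : (XL3 2 c * XL3 3 d : GG K) * 1 = (XL3 3 d * XL3 2 c) * 1 := by
    simp only [XL3_2, XL3_3, mul_assoc, t3mc_t_1_14, t3mc_m_1, t3mc_m_14] <;>
    repeat (first
      | with_reducible rfl
      | refine t3mc_cs (by first | rfl | ring1 | (field_simp; ring1) | (field_simp; first | done | fail)) ?_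
      | refine t3mc_skL (by first | rfl | ring1 | (field_simp; ring1) | (field_simp; first | done | fail)) ?_
      | refine t3mc_skR (by first | rfl | ring1 | (field_simp; ring1) | (field_simp; first | done | fail)) ?_)
  exact (mul_one _).symm.trans (key.trans (mul_one _))

set_option maxHeartbeats 1600000 in
theorem t3mg_c_ll1_3 (c d : K)   :
    (XL3 3 c * XL3 4 d : GG K) =
      XL3 4 d * XL3 3 c := by
  have key : (XL3 3 c * XL3 4 d : GG K) * 1 = (XL3 4 d * XL3 3 c) * 1 := by
    simp only [XL3_3, XL3_4, mul_assoc, t3mc_t_0_1, t3mc_m_0, t3mc_m_1] <;>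
    repeat (first
      | with_reducible rfl
      | refine t3mc_cs (by first | rfl | ring1 | (field_simp; ring1) | (field_simp; first | done | fail)) ?_
      | refine t3mc_skL (by first | rfl | ring1 | (field_simp; ring1) | (field_simp; first | done | fail)) ?_
      | refine t3mc_skR (by first | rfl | ring1 | (field_simp; ring1) | (field_simp; first | done | fail)) ?_)
  exact (mul_one _).symm.trans (key.trans (mul_one _))

set_option maxHeartbeats 1600000 in
theorem t3mg_c_ll1_4 (c d : K)   :
    (XL3 4 c * XL3 5 d : GG K) =
      XL3 5 d * XL3 4 c := by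
  have key : (XL3 4 c * XL3 5 d : GG K) * 1 = (XL3 5 d * XL3 4 c) * 1 := by
    simp only [XL3_4, XL3_5, mul_assoc, t3mc_t_0_9, t3mc_m_0, t3mc_m_9] <;>
    repeat (first
      | with_reducible rfl
      | refine t3mc_cs (by first | rfl | ring1 | (field_simp; ring1) | (field_simp; first | done | fail)) ?_
      | refine t3mc_skL (by first | rfl | ring1 | (field_simp; ring1) | (field_simp; first | done | fail)) ?_
      | refine t3mc_skR (by first | rfl | ring1 | (field_simp; ring1) | (field_simp; first | done | fail)) ?_)
  exact (mul_one _).symm.trans (key.trans (mul_one _))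

set_option maxHeartbeats 1600000 in
theorem t3mg_c_ll1_5 (c d : K)   :
    (XL3 5 c * XL3 0 d : GG K) =
      XL3 0 d * XL3 5 c := by
  have key : (XL3 5 c * XL3 0 d : GG K) * 1 = (XL3 0 d * XL3 5 c) * 1 := by
    simp only [XL3_0, XL3_5, mul_assoc, t3mc_t_9_22, t3mc_m_9, t3mc_m_22] <;>
    repeat (first
      | with_reducible rfl
      | refine t3mc_cs (by first | rfl | ring1 | (field_simp; ring1) | (field_simp; first | done | fail)) ?_
      | refine t3mc_skL (by first | rfl | ring1 | (field_simp; ring1) | (field_simp; first | done | fail)) ?_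
      | refine t3mc_skR (by first | rfl | ring1 | (field_simp; ring1) | (field_simp; first | done | fail)) ?_)
  exact (mul_one _).symm.trans (key.trans (mul_one _))

end Cfsg.Agent.Lib.helper8.T3M
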