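import Mathlib
import Cfsg.Agent.Lib.helper8.T3MColl
import Cfsg.Agent.Lib.helper8.T3M.Defs

/-!
# Project T3M (matrix side of S2110; designer helper8): generic identities, family `c_ls1` (machine generated)

Identities in `D₄(K)` between the orbit products `XS3 k a b c` (three INDEPENDENT parameters) and the long root elements `XL3 k c`;
the parameters of the result are variables `p_i` with hypotheses `p_i = …`.
Specialised at `(a, b, c) = (t, f t, f (f t))` they give the relations of helper17's `SysT` for `³D₄(q)` (files `R_*`).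
-/

set_option autoImplicit false
set_option linter.unusedSimpArgs false
set_option linter.unnecessarySeqFocus false
set_option linter.unreachableTactic false
set_option linter.unusedTactic false
set_option linter.unusedVariables false
set_option maxRecDepth 4000

namespace Cfsg.Agent.Lib.helper8.T3M

open Cfsg.Lie Cfsg.Lie.ChevalleyDatum Matrix
open Cfsg.Agent.Lib.helper8
open Cfsg.Agent.Lib.helper23.TD4V

universe u

variable {K : Type u} [Field K]

attribute [local irreducible] X

set_option maxHeartbeats 1600000 in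
theorem t3mg_c_ls1_0 (c s0 s1 s2 : K)   :
    (XL3 0 c * XS3 1 s0 s1 s2 : GG K) =
      XS3 1 s0 s1 s2 * XL3 0 c := by
  have key : (XL3 0 c * XS3 1 s0 s1 s2 : GG K) * 1 = (XS3 1 s0 s1 s2 * XL3 0 c) * 1 := by
    simp only [XS3_1, XL3_0, mul_assoc, t3mc_t_17_20, t3mc_t_17_21, t3mc_t_17_22, t3mc_t_20_21, t3mc_t_20_22, t3mc_t_21_22, t3mc_m_17, t3mc_m_20, t3mc_m_21, t3mc_m_22] <;>
    repeat (first
      | with_reducible rfl
      | refine t3mc_cs (by first | rfl | ring1 | (field_simp; ring1) | (field_simp; first | done | fail)) ?_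
      | refine t3mc_skL (by first | rfl | ring1 | (field_simp; ring1) | (field_simp; first | done | fail)) ?_
      | refine t3mc_skR (by first | rfl | ring1 | (field_simp; ring1) | (field_simp; first | done | fail)) ?_)
  exact (mul_one _).symm.trans (key.trans (mul_one _))

set_option maxHeartbeats 1600000 in
theorem t3mg_c_ls1_1 (c s0 s1 s2 : K)   :
    (XL3 1 c * XS3 2 s0 s1 s2 : GG K) =
      XS3 2 s0 s1 s2 * XL3 1 c := by
  have key : (XL3 1 c * XS3 2 s0 s1 s2 : GG K) * 1 = (XS3 2 s0 s1 s2 * XL3 1 c) * 1 := by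
    simp only [XS3_2, XL3_1, mul_assoc, t3mc_t_15_16, t3mc_t_15_19, t3mc_t_15_23, t3mc_t_16_19, t3mc_t_16_23, t3mc_t_19_23, t3mc_m_15, t3mc_m_16, t3mc_m_19, t3mc_m_23] <;>
    repeat (first
      | with_reducible rfl
      | refine t3mc_cs (by first | rfl | ring1 | (field_simp; ring1) | (field_simp; first | done | fail)) ?_
      | refine t3mc_skL (by first | rfl | ring1 | (field_simp; ring1) | (field_simp; first | done | fail)) ?_
      | refine t3mc_skR (by first | rfl | ring1 | (field_simp; ring1) | (field_simp; first | done | fail)) ?_)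
  exact (mul_one _).symm.trans (key.trans (mul_one _))

set_option maxHeartbeats 1600000 in
theorem t3mg_c_ls1_2 (c s0 s1 s2 : K)   :
    (XL3 2 c * XS3 3 s0 s1 s2 : GG K) =
      XS3 3 s0 s1 s2 * XL3 2 c := by
  have key : (XL3 2 c * XS3 3 s0 s1 s2 : GG K) * 1 = (XS3 3 s0 s1 s2 * XL3 2 c) * 1 := by
    simp only [XS3_3, XL3_2, mul_assoc, t3mc_t_5_10, t3mc_t_5_11, t3mc_t_5_14, t3mc_t_10_11, t3mc_t_10_14, t3mc_t_11_14, t3mc_m_5, t3mc_m_10, t3mc_m_11, t3mc_m_14] <;>
    repeat (first
      | with_reducible rfl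
      | refine t3mc_cs (by first | rfl | ring1 | (field_simp; ring1) | (field_simp; first | done | fail)) ?_
      | refine t3mc_skL (by first | rfl | ring1 | (field_simp; ring1) | (field_simp; first | done | fail)) ?_
      | refine t3mc_skR (by first | rfl | ring1 | (field_simp; ring1) | (field_simp; first | done | fail)) ?_)
  exact (mul_one _).symm.trans (key.trans (mul_one _))

set_option maxHeartbeats 1600000 in
theorem t3mg_c_ls1_3 (c s0 s1 s2 : K)   :
    (XL3 3 c * XS3 4 s0 s1 s2 : GG K) =
      XS3 4 s0 s1 s2 * XL3 3 c := by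
  have key : (XL3 3 c * XS3 4 s0 s1 s2 : GG K) * 1 = (XS3 4 s0 s1 s2 * XL3 3 c) * 1 := by
    simp only [XS3_4, XL3_3, mul_assoc, t3mc_t_1_2, t3mc_t_1_3, t3mc_t_1_6, t3mc_t_2_3, t3mc_t_2_6, t3mc_t_3_6, t3mc_m_1, t3mc_m_2, t3mc_m_3, t3mc_m_6] <;>
    repeat (first
      | with_reducible rfl
      | refine t3mc_cs (by first | rfl | ring1 | (field_simp; ring1) | (field_simp; first | done | fail)) ?_
      | refine t3mc_skL (by first | rfl | ring1 | (field_simp; ring1) | (field_simp; first | done | fail)) ?_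
      | refine t3mc_skR (by first | rfl | ring1 | (field_simp; ring1) | (field_simp; first | done | fail)) ?_)
  exact (mul_one _).symm.trans (key.trans (mul_one _))

set_option maxHeartbeats 1600000 in
theorem t3mg_c_ls1_4 (c s0 s1 s2 : K)   :
    (XL3 4 c * XS3 5 s0 s1 s2 : GG K) =
      XS3 5 s0 s1 s2 * XL3 4 c := by
  have key : (XL3 4 c * XS3 5 s0 s1 s2 : GG K) * 1 = (XS3 5 s0 s1 s2 * XL3 4 c) * 1 := by
    simp only [XS3_5, XL3_4, mul_assoc, t3mc_t_0_4, t3mc_t_0_7, t3mc_t_0_8, t3mc_t_4_7, t3mc_t_4_8, t3mc_t_7_8, t3mc_m_0, t3mc_m_4, t3mc_m_7, t3mc_m_8] <;>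
    repeat (first
      | with_reducible rfl
      | refine t3mc_cs (by first | rfl | ring1 | (field_simp; ring1) | (field_simp; first | done | fail)) ?_
      | refine t3mc_skL (by first | rfl | ring1 | (field_simp; ring1) | (field_simp; first | done | fail)) ?_
      | refine t3mc_skR (by first | rfl | ring1 | (field_simp; ring1) | (field_simp; first | done | fail)) ?_)
  exact (mul_one _).symm.trans (key.trans (mul_one _))

set_option maxHeartbeats 1600000 in
theorem t3mg_c_ls1_5 (c s0 s1 s2 : K)   :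
    (XL3 5 c * XS3 0 s0 s1 s2 : GG K) =
      XS3 0 s0 s1 s2 * XL3 5 c := by
  have key : (XL3 5 c * XS3 0 s0 s1 s2 : GG K) * 1 = (XS3 0 s0 s1 s2 * XL3 5 c) * 1 := by
    simp only [XS3_0, XL3_5, mul_assoc, t3mc_t_9_12, t3mc_t_9_13, t3mc_t_9_18, t3mc_t_12_13, t3mc_t_12_18, t3mc_t_13_18, t3mc_m_9, t3mc_m_12, t3mc_m_13, t3mc_m_18] <;>
    repeat (first
      | with_reducible rfl
      | refine t3mc_cs (by first | rfl | ring1 | (field_simp; ring1) | (field_simp; first | done | fail)) ?_
      | refine t3mc_skL (by first | rfl | ring1 | (field_simp; ring1) | (field_simp; first | done | fail)) ?_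
      | refine t3mc_skR (by first | rfl | ring1 | (field_simp; ring1) | (field_simp; first | done | fail)) ?_)
  exact (mul_one _).symm.trans (key.trans (mul_one _))

end Cfsg.Agent.Lib.helper8.T3M
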