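import Mathlib
import Cfsg.Agent.Lib.helper8.T3M.G_c_sl1

/-!
# Project T3M (matrix side of S2110; designer helper8): the relations `c_sl1` of helper17's `SysT` in `GG K`, `k = 0 … 5` (machine generated)
-/

set_option autoImplicit false
set_option linter.unusedSimpArgs false
set_option linter.unnecessarySeqFocus false
set_option linter.unreachableTactic false
set_option linter.unusedTactic false
set_option linter.unusedVariables false

namespace Cfsg.Agent.Lib.helper8.T3M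

open Cfsg.Lie Cfsg.Lie.ChevalleyDatum Matrix
open Cfsg.Agent.Lib.helper8
open Cfsg.Agent.Lib.helper23.TD4V
open Cfsg.Agent.Lib.helper17.T3
open Cfsg.Agent.Lib.helper15.St2 Cfsg.Agent.Lib.helper7.Ce

universe u

variable {K : Type u} [Field K] {q : ℕ}

theorem t3m_c_sl1_0 (D : Dat K q) (s : K) (c : D.Fx) :
    XS D 0 s * XL D 1 c = XL D 1 c * XS D 0 s := by
  simp only [XS_def, XL_def, val6_0, val6_1, val6_2, val6_3, val6_4, val6_5]
  exact t3mg_c_sl1_0 s (D.f s) (D.f (D.f s)) (c : K) 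

theorem t3m_c_sl1_1 (D : Dat K q) (s : K) (c : D.Fx) :
    XS D 1 s * XL D 2 c = XL D 2 c * XS D 1 s := by
  simp only [XS_def, XL_def, val6_0, val6_1, val6_2, val6_3, val6_4, val6_5]
  exact t3mg_c_sl1_1 s (D.f s) (D.f (D.f s)) (c : K) 

theorem t3m_c_sl1_2 (D : Dat K q) (s : K) (c : D.Fx) :
    XS D 2 s * XL D 3 c = XL D 3 c * XS D 2 s := by
  simp only [XS_def, XL_def, val6_0, val6_1, val6_2, val6_3, val6_4, val6_5]
  exact t3mg_c_sl1_2 s (D.f s) (D.f (D.f s)) (c : K) 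

theorem t3m_c_sl1_3 (D : Dat K q) (s : K) (c : D.Fx) :
    XS D 3 s * XL D 4 c = XL D 4 c * XS D 3 s := by
  simp only [XS_def, XL_def, val6_0, val6_1, val6_2, val6_3, val6_4, val6_5]
  exact t3mg_c_sl1_3 s (D.f s) (D.f (D.f s)) (c : K) 

theorem t3m_c_sl1_4 (D : Dat K q) (s : K) (c : D.Fx) :
    XS D 4 s * XL D 5 c = XL D 5 c * XS D 4 s := by
  simp only [XS_def, XL_def, val6_0, val6_1, val6_2, val6_3, val6_4, val6_5]
  exact t3mg_c_sl1_4 s (D.f s) (D.f (D.f s)) (c : K) 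

theorem t3m_c_sl1_5 (D : Dat K q) (s : K) (c : D.Fx) :
    XS D 5 s * XL D 0 c = XL D 0 c * XS D 5 s := by
  simp only [XS_def, XL_def, val6_0, val6_1, val6_2, val6_3, val6_4, val6_5]
  exact t3mg_c_sl1_5 s (D.f s) (D.f (D.f s)) (c : K) 

end Cfsg.Agent.Lib.helper8.T3M
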