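import Mathlib
import Cfsg.Agent.Lib.helper8.T3M.G_ls

/-!
# Project T3M (matrix side of S2110; designer helper8): the relations `ls` of helper17's `SysT` in `GG K`, `k = 0 … 5` (machine generated)
-/

set_option autoImplicit false
set_option linter.unusedSimpArgs false
set_option linter.unnecessarySeqFocus false
set_option linter.unreachableTactic false
set_option linter.unusedTactic false
set_option linter.unusedVariables false

namespace Cfsg.Agent.Lib.helper8.T3M

open Cfsg.Lie Cfsg.Lie.ChevalleyDatum Matrix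
open Cfsg.Agent.Lib.helper8
open Cfsg.Agent.Lib.helper23.TD4V
open Cfsg.Agent.Lib.helper17.T3
open Cfsg.Agent.Lib.helper15.St2 Cfsg.Agent.Lib.helper7.Ce

universe u

variable {K : Type u} [Field K] {q : ℕ}

theorem t3m_ls_0 (D : Dat K q) (c : D.Fx) (t : K) :
    cm (XL D 0 c) (XS D 3 t) =
      XS D 1 (-(c • t)) * XL D 1 (-(c ^ 2 * D.cub.nm t)) * XS D 2 (c • D.cub.sharp t) * XL D 2 (c * D.cub.nm t) := by
  rw [t3m_cm_iff]
  simp only [XS_def, XL_def, val6_0, val6_1, val6_2, val6_3, val6_4, val6_5]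
  exact t3mg_ls_0 (c : K) t (D.f t) (D.f (D.f t)) 
    (by first | rfl | (simp only [Dat.cub_tr, Dat.cub_nm, Dat.cub_sharp, Dat.cub_cross, Dat.smul_def, Dat.cub_θ, Subfield.coe_neg, Subfield.coe_mul, Subfield.coe_add, Subfield.coe_inv, SubmonoidClass.coe_pow, map_mul, map_add, map_neg, map_inv₀, map_pow, D.h3, D.f_coe] <;> first | rfl | ring1 | (field_simp; ring1) | (field_simp; first | done | fail)))
    (by first | rfl | (simp only [Dat.cub_tr, Dat.cub_nm, Dat.cub_sharp, Dat.cub_cross, Dat.smul_def, Dat.cub_θ, Subfield.coe_neg, Subfield.coe_mul, Subfield.coe_add, Subfield.coe_inv, SubmonoidClass.coe_pow, map_mul, map_add, map_neg, map_inv₀, map_pow, D.h3, D.f_coe] <;> first | rfl | ring1 | (field_simp; ring1) | (field_simp; first | done | fail)))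
    (by first | rfl | (simp only [Dat.cub_tr, Dat.cub_nm, Dat.cub_sharp, Dat.cub_cross, Dat.smul_def, Dat.cub_θ, Subfield.coe_neg, Subfield.coe_mul, Subfield.coe_add, Subfield.coe_inv, SubmonoidClass.coe_pow, map_mul, map_add, map_neg, map_inv₀, map_pow, D.h3, D.f_coe] <;> first | rfl | ring1 | (field_simp; ring1) | (field_simp; first | done | fail)))
    (by first | rfl | (simp only [Dat.cub_tr, Dat.cub_nm, Dat.cub_sharp, Dat.cub_cross, Dat.smul_def, Dat.cub_θ, Subfield.coe_neg, Subfield.coe_mul, Subfield.coe_add, Subfield.coe_inv, SubmonoidClass.coe_pow, map_mul, map_add, map_neg, map_inv₀, map_pow, D.h3, D.f_coe] <;> first | rfl | ring1 | (field_simp; ring1) | (field_simp; first | done | fail)))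
    (by first | rfl | (simp only [Dat.cub_tr, Dat.cub_nm, Dat.cub_sharp, Dat.cub_cross, Dat.smul_def, Dat.cub_θ, Subfield.coe_neg, Subfield.coe_mul, Subfield.coe_add, Subfield.coe_inv, SubmonoidClass.coe_pow, map_mul, map_add, map_neg, map_inv₀, map_pow, D.h3, D.f_coe] <;> first | rfl | ring1 | (field_simp; ring1) | (field_simp; first | done | fail)))
    (by first | rfl | (simp only [Dat.cub_tr, Dat.cub_nm, Dat.cub_sharp, Dat.cub_cross, Dat.smul_def, Dat.cub_θ, Subfield.coe_neg, Subfield.coe_mul, Subfield.coe_add, Subfield.coe_inv, SubmonoidClass.coe_pow, map_mul, map_add, map_neg, map_inv₀, map_pow, D.h3, D.f_coe] <;> first | rfl | ring1 | (field_simp; ring1) | (field_simp; first | done | fail)))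
    (by first | rfl | (simp only [Dat.cub_tr, Dat.cub_nm, Dat.cub_sharp, Dat.cub_cross, Dat.smul_def, Dat.cub_θ, Subfield.coe_neg, Subfield.coe_mul, Subfield.coe_add, Subfield.coe_inv, SubmonoidClass.coe_pow, map_mul, map_add, map_neg, map_inv₀, map_pow, D.h3, D.f_coe] <;> first | rfl | ring1 | (field_simp; ring1) | (field_simp; first | done | fail)))
    (by first | rfl | (simp only [Dat.cub_tr, Dat.cub_nm, Dat.cub_sharp, Dat.cub_cross, Dat.smul_def, Dat.cub_θ, Subfield.coe_neg, Subfield.coe_mul, Subfield.coe_add, Subfield.coe_inv, SubmonoidClass.coe_pow, map_mul, map_add, map_neg, map_inv₀, map_pow, D.h3, D.f_coe] <;> first | rfl | ring1 | (field_simp; ring1) | (field_simp; first | done | fail)))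

theorem t3m_ls_1 (D : Dat K q) (c : D.Fx) (t : K) :
    cm (XL D 1 c) (XS D 4 t) =
      XS D 2 (-(c • t)) * XL D 2 (-(c ^ 2 * D.cub.nm t)) * XS D 3 (c • D.cub.sharp t) * XL D 3 (c * D.cub.nm t) := by
  rw [t3m_cm_iff]
  simp only [XS_def, XL_def, val6_0, val6_1, val6_2, val6_3, val6_4, val6_5]
  exact t3mg_ls_1 (c : K) t (D.f t) (D.f (D.f t)) 
    (by first | rfl | (simp only [Dat.cub_tr, Dat.cub_nm, Dat.cub_sharp, Dat.cub_cross, Dat.smul_def, Dat.cub_θ, Subfield.coe_neg, Subfield.coe_mul, Subfield.coe_add, Subfield.coe_inv, SubmonoidClass.coe_pow, map_mul, map_add, map_neg, map_inv₀, map_pow, D.h3, D.f_coe] <;> first | rfl | ring1 | (field_simp; ring1) | (field_simp; first | done | fail)))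
    (by first | rfl | (simp only [Dat.cub_tr, Dat.cub_nm, Dat.cub_sharp, Dat.cub_cross, Dat.smul_def, Dat.cub_θ, Subfield.coe_neg, Subfield.coe_mul, Subfield.coe_add, Subfield.coe_inv, SubmonoidClass.coe_pow, map_mul, map_add, map_neg, map_inv₀, map_pow, D.h3, D.f_coe] <;> first | rfl | ring1 | (field_simp; ring1) | (field_simp; first | done | fail)))
    (by first | rfl | (simp only [Dat.cub_tr, Dat.cub_nm, Dat.cub_sharp, Dat.cub_cross, Dat.smul_def, Dat.cub_θ, Subfield.coe_neg, Subfield.coe_mul, Subfield.coe_add, Subfield.coe_inv, SubmonoidClass.coe_pow, map_mul, map_add, map_neg, map_inv₀, map_pow, D.h3, D.f_coe] <;> first | rfl | ring1 | (field_simp; ring1) | (field_simp; first | done | fail)))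
    (by first | rfl | (simp only [Dat.cub_tr, Dat.cub_nm, Dat.cub_sharp, Dat.cub_cross, Dat.smul_def, Dat.cub_θ, Subfield.coe_neg, Subfield.coe_mul, Subfield.coe_add, Subfield.coe_inv, SubmonoidClass.coe_pow, map_mul, map_add, map_neg, map_inv₀, map_pow, D.h3, D.f_coe] <;> first | rfl | ring1 | (field_simp; ring1) | (field_simp; first | done | fail)))
    (by first | rfl | (simp only [Dat.cub_tr, Dat.cub_nm, Dat.cub_sharp, Dat.cub_cross, Dat.smul_def, Dat.cub_θ, Subfield.coe_neg, Subfield.coe_mul, Subfield.coe_add, Subfield.coe_inv, SubmonoidClass.coe_pow, map_mul, map_add, map_neg, map_inv₀, map_pow, D.h3, D.f_coe] <;> first | rfl | ring1 | (field_simp; ring1) | (field_simp; first | done | fail)))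
    (by first | rfl | (simp only [Dat.cub_tr, Dat.cub_nm, Dat.cub_sharp, Dat.cub_cross, Dat.smul_def, Dat.cub_θ, Subfield.coe_neg, Subfield.coe_mul, Subfield.coe_add, Subfield.coe_inv, SubmonoidClass.coe_pow, map_mul, map_add, map_neg, map_inv₀, map_pow, D.h3, D.f_coe] <;> first | rfl | ring1 | (field_simp; ring1) | (field_simp; first | done | fail)))
    (by first | rfl | (simp only [Dat.cub_tr, Dat.cub_nm, Dat.cub_sharp, Dat.cub_cross, Dat.smul_def, Dat.cub_θ, Subfield.coe_neg, Subfield.coe_mul, Subfield.coe_add, Subfield.coe_inv, SubmonoidClass.coe_pow, map_mul, map_add, map_neg, map_inv₀, map_pow, D.h3, D.f_coe] <;> first | rfl | ring1 | (field_simp; ring1) | (field_simp; first | done | fail)))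
    (by first | rfl | (simp only [Dat.cub_tr, Dat.cub_nm, Dat.cub_sharp, Dat.cub_cross, Dat.smul_def, Dat.cub_θ, Subfield.coe_neg, Subfield.coe_mul, Subfield.coe_add, Subfield.coe_inv, SubmonoidClass.coe_pow, map_mul, map_add, map_neg, map_inv₀, map_pow, D.h3, D.f_coe] <;> first | rfl | ring1 | (field_simp; ring1) | (field_simp; first | done | fail)))

theorem t3m_ls_2 (D : Dat K q) (c : D.Fx) (t : K) :
    cm (XL D 2 c) (XS D 5 t) =
      XS D 3 (-(c • t)) * XL D 3 (-(c ^ 2 * D.cub.nm t)) * XS D 4 (c • D.cub.sharp t) * XL D 4 (c * D.cub.nm t) := by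
  rw [t3m_cm_iff]
  simp only [XS_def, XL_def, val6_0, val6_1, val6_2, val6_3, val6_4, val6_5]
  exact t3mg_ls_2 (c : K) t (D.f t) (D.f (D.f t)) 
    (by first | rfl | (simp only [Dat.cub_tr, Dat.cub_nm, Dat.cub_sharp, Dat.cub_cross, Dat.smul_def, Dat.cub_θ, Subfield.coe_neg, Subfield.coe_mul, Subfield.coe_add, Subfield.coe_inv, SubmonoidClass.coe_pow, map_mul, map_add, map_neg, map_inv₀, map_pow, D.h3, D.f_coe] <;> first | rfl | ring1 | (field_simp; ring1) | (field_simp; first | done | fail)))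
    (by first | rfl | (simp only [Dat.cub_tr, Dat.cub_nm, Dat.cub_sharp, Dat.cub_cross, Dat.smul_def, Dat.cub_θ, Subfield.coe_neg, Subfield.coe_mul, Subfield.coe_add, Subfield.coe_inv, SubmonoidClass.coe_pow, map_mul, map_add, map_neg, map_inv₀, map_pow, D.h3, D.f_coe] <;> first | rfl | ring1 | (field_simp; ring1) | (field_simp; first | done | fail)))
    (by first | rfl | (simp only [Dat.cub_tr, Dat.cub_nm, Dat.cub_sharp, Dat.cub_cross, Dat.smul_def, Dat.cub_θ, Subfield.coe_neg, Subfield.coe_mul, Subfield.coe_add, Subfield.coe_inv, SubmonoidClass.coe_pow, map_mul, map_add, map_neg, map_inv₀, map_pow, D.h3, D.f_coe] <;> first | rfl | ring1 | (field_simp; ring1) | (field_simp; first | done | fail)))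
    (by first | rfl | (simp only [Dat.cub_tr, Dat.cub_nm, Dat.cub_sharp, Dat.cub_cross, Dat.smul_def, Dat.cub_θ, Subfield.coe_neg, Subfield.coe_mul, Subfield.coe_add, Subfield.coe_inv, SubmonoidClass.coe_pow, map_mul, map_add, map_neg, map_inv₀, map_pow, D.h3, D.f_coe] <;> first | rfl | ring1 | (field_simp; ring1) | (field_simp; first | done | fail)))
    (by first | rfl | (simp only [Dat.cub_tr, Dat.cub_nm, Dat.cub_sharp, Dat.cub_cross, Dat.smul_def, Dat.cub_θ, Subfield.coe_neg, Subfield.coe_mul, Subfield.coe_add, Subfield.coe_inv, SubmonoidClass.coe_pow, map_mul, map_add, map_neg, map_inv₀, map_pow, D.h3, D.f_coe] <;> first | rfl | ring1 | (field_simp; ring1) | (field_simp; first | done | fail)))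
    (by first | rfl | (simp only [Dat.cub_tr, Dat.cub_nm, Dat.cub_sharp, Dat.cub_cross, Dat.smul_def, Dat.cub_θ, Subfield.coe_neg, Subfield.coe_mul, Subfield.coe_add, Subfield.coe_inv, SubmonoidClass.coe_pow, map_mul, map_add, map_neg, map_inv₀, map_pow, D.h3, D.f_coe] <;> first | rfl | ring1 | (field_simp; ring1) | (field_simp; first | done | fail)))
    (by first | rfl | (simp only [Dat.cub_tr, Dat.cub_nm, Dat.cub_sharp, Dat.cub_cross, Dat.smul_def, Dat.cub_θ, Subfield.coe_neg, Subfield.coe_mul, Subfield.coe_add, Subfield.coe_inv, SubmonoidClass.coe_pow, map_mul, map_add, map_neg, map_inv₀, map_pow, D.h3, D.f_coe] <;> first | rfl | ring1 | (field_simp; ring1) | (field_simp; first | done | fail)))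
    (by first | rfl | (simp only [Dat.cub_tr, Dat.cub_nm, Dat.cub_sharp, Dat.cub_cross, Dat.smul_def, Dat.cub_θ, Subfield.coe_neg, Subfield.coe_mul, Subfield.coe_add, Subfield.coe_inv, SubmonoidClass.coe_pow, map_mul, map_add, map_neg, map_inv₀, map_pow, D.h3, D.f_coe] <;> first | rfl | ring1 | (field_simp; ring1) | (field_simp; first | done | fail)))

theorem t3m_ls_3 (D : Dat K q) (c : D.Fx) (t : K) :
    cm (XL D 3 c) (XS D 0 t) =
      XS D 4 (-(c • t)) * XL D 4 (-(c ^ 2 * D.cub.nm t)) * XS D 5 (c • D.cub.sharp t) * XL D 5 (c * D.cub.nm t) := by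
  rw [t3m_cm_iff]
  simp only [XS_def, XL_def, val6_0, val6_1, val6_2, val6_3, val6_4, val6_5]
  exact t3mg_ls_3 (c : K) t (D.f t) (D.f (D.f t)) 
    (by first | rfl | (simp only [Dat.cub_tr, Dat.cub_nm, Dat.cub_sharp, Dat.cub_cross, Dat.smul_def, Dat.cub_θ, Subfield.coe_neg, Subfield.coe_mul, Subfield.coe_add, Subfield.coe_inv, SubmonoidClass.coe_pow, map_mul, map_add, map_neg, map_inv₀, map_pow, D.h3, D.f_coe] <;> first | rfl | ring1 | (field_simp; ring1) | (field_simp; first | done | fail)))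
    (by first | rfl | (simp only [Dat.cub_tr, Dat.cub_nm, Dat.cub_sharp, Dat.cub_cross, Dat.smul_def, Dat.cub_θ, Subfield.coe_neg, Subfield.coe_mul, Subfield.coe_add, Subfield.coe_inv, SubmonoidClass.coe_pow, map_mul, map_add, map_neg, map_inv₀, map_pow, D.h3, D.f_coe] <;> first | rfl | ring1 | (field_simp; ring1) | (field_simp; first | done | fail)))
    (by first | rfl | (simp only [Dat.cub_tr, Dat.cub_nm, Dat.cub_sharp, Dat.cub_cross, Dat.smul_def, Dat.cub_θ, Subfield.coe_neg, Subfield.coe_mul, Subfield.coe_add, Subfield.coe_inv, SubmonoidClass.coe_pow, map_mul, map_add, map_neg, map_inv₀, map_pow, D.h3, D.f_coe] <;> first | rfl | ring1 | (field_simp; ring1) | (field_simp; first | done | fail)))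
    (by first | rfl | (simp only [Dat.cub_tr, Dat.cub_nm, Dat.cub_sharp, Dat.cub_cross, Dat.smul_def, Dat.cub_θ, Subfield.coe_neg, Subfield.coe_mul, Subfield.coe_add, Subfield.coe_inv, SubmonoidClass.coe_pow, map_mul, map_add, map_neg, map_inv₀, map_pow, D.h3, D.f_coe] <;> first | rfl | ring1 | (field_simp; ring1) | (field_simp; first | done | fail)))
    (by first | rfl | (simp only [Dat.cub_tr, Dat.cub_nm, Dat.cub_sharp, Dat.cub_cross, Dat.smul_def, Dat.cub_θ, Subfield.coe_neg, Subfield.coe_mul, Subfield.coe_add, Subfield.coe_inv, SubmonoidClass.coe_pow, map_mul, map_add, map_neg, map_inv₀, map_pow, D.h3, D.f_coe] <;> first | rfl | ring1 | (field_simp; ring1) | (field_simp; first | done | fail)))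
    (by first | rfl | (simp only [Dat.cub_tr, Dat.cub_nm, Dat.cub_sharp, Dat.cub_cross, Dat.smul_def, Dat.cub_θ, Subfield.coe_neg, Subfield.coe_mul, Subfield.coe_add, Subfield.coe_inv, SubmonoidClass.coe_pow, map_mul, map_add, map_neg, map_inv₀, map_pow, D.h3, D.f_coe] <;> first | rfl | ring1 | (field_simp; ring1) | (field_simp; first | done | fail)))
    (by first | rfl | (simp only [Dat.cub_tr, Dat.cub_nm, Dat.cub_sharp, Dat.cub_cross, Dat.smul_def, Dat.cub_θ, Subfield.coe_neg, Subfield.coe_mul, Subfield.coe_add, Subfield.coe_inv, SubmonoidClass.coe_pow, map_mul, map_add, map_neg, map_inv₀, map_pow, D.h3, D.f_coe] <;> first | rfl | ring1 | (field_simp; ring1) | (field_simp; first | done | fail)))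
    (by first | rfl | (simp only [Dat.cub_tr, Dat.cub_nm, Dat.cub_sharp, Dat.cub_cross, Dat.smul_def, Dat.cub_θ, Subfield.coe_neg, Subfield.coe_mul, Subfield.coe_add, Subfield.coe_inv, SubmonoidClass.coe_pow, map_mul, map_add, map_neg, map_inv₀, map_pow, D.h3, D.f_coe] <;> first | rfl | ring1 | (field_simp; ring1) | (field_simp; first | done | fail)))

theorem t3m_ls_4 (D : Dat K q) (c : D.Fx) (t : K) :
    cm (XL D 4 c) (XS D 1 t) =
      XS D 5 (-(c • t)) * XL D 5 (-(c ^ 2 * D.cub.nm t)) * XS D 0 (c • D.cub.sharp t) * XL D 0 (c * D.cub.nm t) := by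
  rw [t3m_cm_iff]
  simp only [XS_def, XL_def, val6_0, val6_1, val6_2, val6_3, val6_4, val6_5]
  exact t3mg_ls_4 (c : K) t (D.f t) (D.f (D.f t)) 
    (by first | rfl | (simp only [Dat.cub_tr, Dat.cub_nm, Dat.cub_sharp, Dat.cub_cross, Dat.smul_def, Dat.cub_θ, Subfield.coe_neg, Subfield.coe_mul, Subfield.coe_add, Subfield.coe_inv, SubmonoidClass.coe_pow, map_mul, map_add, map_neg, map_inv₀, map_pow, D.h3, D.f_coe] <;> first | rfl | ring1 | (field_simp; ring1) | (field_simp; first | done | fail)))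
    (by first | rfl | (simp only [Dat.cub_tr, Dat.cub_nm, Dat.cub_sharp, Dat.cub_cross, Dat.smul_def, Dat.cub_θ, Subfield.coe_neg, Subfield.coe_mul, Subfield.coe_add, Subfield.coe_inv, SubmonoidClass.coe_pow, map_mul, map_add, map_neg, map_inv₀, map_pow, D.h3, D.f_coe] <;> first | rfl | ring1 | (field_simp; ring1) | (field_simp; first | done | fail)))
    (by first | rfl | (simp only [Dat.cub_tr, Dat.cub_nm, Dat.cub_sharp, Dat.cub_cross, Dat.smul_def, Dat.cub_θ, Subfield.coe_neg, Subfield.coe_mul, Subfield.coe_add, Subfield.coe_inv, SubmonoidClass.coe_pow, map_mul, map_add, map_neg, map_inv₀, map_pow, D.h3, D.f_coe] <;> first | rfl | ring1 | (field_simp; ring1) | (field_simp; first | done | fail)))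
    (by first | rfl | (simp only [Dat.cub_tr, Dat.cub_nm, Dat.cub_sharp, Dat.cub_cross, Dat.smul_def, Dat.cub_θ, Subfield.coe_neg, Subfield.coe_mul, Subfield.coe_add, Subfield.coe_inv, SubmonoidClass.coe_pow, map_mul, map_add, map_neg, map_inv₀, map_pow, D.h3, D.f_coe] <;> first | rfl | ring1 | (field_simp; ring1) | (field_simp; first | done | fail)))
    (by first | rfl | (simp only [Dat.cub_tr, Dat.cub_nm, Dat.cub_sharp, Dat.cub_cross, Dat.smul_def, Dat.cub_θ, Subfield.coe_neg, Subfield.coe_mul, Subfield.coe_add, Subfield.coe_inv, SubmonoidClass.coe_pow, map_mul, map_add, map_neg, map_inv₀, map_pow, D.h3, D.f_coe] <;> first | rfl | ring1 | (field_simp; ring1) | (field_simp; first | done | fail)))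
    (by first | rfl | (simp only [Dat.cub_tr, Dat.cub_nm, Dat.cub_sharp, Dat.cub_cross, Dat.smul_def, Dat.cub_θ, Subfield.coe_neg, Subfield.coe_mul, Subfield.coe_add, Subfield.coe_inv, SubmonoidClass.coe_pow, map_mul, map_add, map_neg, map_inv₀, map_pow, D.h3, D.f_coe] <;> first | rfl | ring1 | (field_simp; ring1) | (field_simp; first | done | fail)))
    (by first | rfl | (simp only [Dat.cub_tr, Dat.cub_nm, Dat.cub_sharp, Dat.cub_cross, Dat.smul_def, Dat.cub_θ, Subfield.coe_neg, Subfield.coe_mul, Subfield.coe_add, Subfield.coe_inv, SubmonoidClass.coe_pow, map_mul, map_add, map_neg, map_inv₀, map_pow, D.h3, D.f_coe] <;> first | rfl | ring1 | (field_simp; ring1) | (field_simp; first | done | fail)))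
    (by first | rfl | (simp only [Dat.cub_tr, Dat.cub_nm, Dat.cub_sharp, Dat.cub_cross, Dat.smul_def, Dat.cub_θ, Subfield.coe_neg, Subfield.coe_mul, Subfield.coe_add, Subfield.coe_inv, SubmonoidClass.coe_pow, map_mul, map_add, map_neg, map_inv₀, map_pow, D.h3, D.f_coe] <;> first | rfl | ring1 | (field_simp; ring1) | (field_simp; first | done | fail)))

theorem t3m_ls_5 (D : Dat K q) (c : D.Fx) (t : K) :
    cm (XL D 5 c) (XS D 2 t) =
      XS D 0 (-(c • t)) * XL D 0 (-(c ^ 2 * D.cub.nm t)) * XS D 1 (c • D.cub.sharp t) * XL D 1 (c * D.cub.nm t) := by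
  rw [t3m_cm_iff]
  simp only [XS_def, XL_def, val6_0, val6_1, val6_2, val6_3, val6_4, val6_5]
  exact t3mg_ls_5 (c : K) t (D.f t) (D.f (D.f t)) 
    (by first | rfl | (simp only [Dat.cub_tr, Dat.cub_nm, Dat.cub_sharp, Dat.cub_cross, Dat.smul_def, Dat.cub_θ, Subfield.coe_neg, Subfield.coe_mul, Subfield.coe_add, Subfield.coe_inv, SubmonoidClass.coe_pow, map_mul, map_add, map_neg, map_inv₀, map_pow, D.h3, D.f_coe] <;> first | rfl | ring1 | (field_simp; ring1) | (field_simp; first | done | fail)))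
    (by first | rfl | (simp only [Dat.cub_tr, Dat.cub_nm, Dat.cub_sharp, Dat.cub_cross, Dat.smul_def, Dat.cub_θ, Subfield.coe_neg, Subfield.coe_mul, Subfield.coe_add, Subfield.coe_inv, SubmonoidClass.coe_pow, map_mul, map_add, map_neg, map_inv₀, map_pow, D.h3, D.f_coe] <;> first | rfl | ring1 | (field_simp; ring1) | (field_simp; first | done | fail)))
    (by first | rfl | (simp only [Dat.cub_tr, Dat.cub_nm, Dat.cub_sharp, Dat.cub_cross, Dat.smul_def, Dat.cub_θ, Subfield.coe_neg, Subfield.coe_mul, Subfield.coe_add, Subfield.coe_inv, SubmonoidClass.coe_pow, map_mul, map_add, map_neg, map_inv₀, map_pow, D.h3, D.f_coe] <;> first | rfl | ring1 | (field_simp; ring1) | (field_simp; first | done | fail)))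
    (by first | rfl | (simp only [Dat.cub_tr, Dat.cub_nm, Dat.cub_sharp, Dat.cub_cross, Dat.smul_def, Dat.cub_θ, Subfield.coe_neg, Subfield.coe_mul, Subfield.coe_add, Subfield.coe_inv, SubmonoidClass.coe_pow, map_mul, map_add, map_neg, map_inv₀, map_pow, D.h3, D.f_coe] <;> first | rfl | ring1 | (field_simp; ring1) | (field_simp; first | done | fail)))
    (by first | rfl | (simp only [Dat.cub_tr, Dat.cub_nm, Dat.cub_sharp, Dat.cub_cross, Dat.smul_def, Dat.cub_θ, Subfield.coe_neg, Subfield.coe_mul, Subfield.coe_add, Subfield.coe_inv, SubmonoidClass.coe_pow, map_mul, map_add, map_neg, map_inv₀, map_pow, D.h3, D.f_coe] <;> first | rfl | ring1 | (field_simp; ring1) | (field_simp; first | done | fail)))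
    (by first | rfl | (simp only [Dat.cub_tr, Dat.cub_nm, Dat.cub_sharp, Dat.cub_cross, Dat.smul_def, Dat.cub_θ, Subfield.coe_neg, Subfield.coe_mul, Subfield.coe_add, Subfield.coe_inv, SubmonoidClass.coe_pow, map_mul, map_add, map_neg, map_inv₀, map_pow, D.h3, D.f_coe] <;> first | rfl | ring1 | (field_simp; ring1) | (field_simp; first | done | fail)))
    (by first | rfl | (simp only [Dat.cub_tr, Dat.cub_nm, Dat.cub_sharp, Dat.cub_cross, Dat.smul_def, Dat.cub_θ, Subfield.coe_neg, Subfield.coe_mul, Subfield.coe_add, Subfield.coe_inv, SubmonoidClass.coe_pow, map_mul, map_add, map_neg, map_inv₀, map_pow, D.h3, D.f_coe] <;> first | rfl | ring1 | (field_simp; ring1) | (field_simp; first | done | fail)))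
    (by first | rfl | (simp only [Dat.cub_tr, Dat.cub_nm, Dat.cub_sharp, Dat.cub_cross, Dat.smul_def, Dat.cub_θ, Subfield.coe_neg, Subfield.coe_mul, Subfield.coe_add, Subfield.coe_inv, SubmonoidClass.coe_pow, map_mul, map_add, map_neg, map_inv₀, map_pow, D.h3, D.f_coe] <;> first | rfl | ring1 | (field_simp; ring1) | (field_simp; first | done | fail)))

end Cfsg.Agent.Lib.helper8.T3M
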