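import Mathlib
import Cfsg.Agent.Lib.helper8.T3MColl
import Cfsg.Agent.Lib.helper8.T3M.Defs
import Cfsg.Agent.Lib.Helper26.TD4VJ0

/-!
# Project T3M (designer helper8): the rank one relations `n_r X_{±r}(u) n_r⁻¹ = X_{∓r}(…)` for every root `r` of `D₄`
(through helper26's `phi_root : SL₂(K) →* GG K`), in tail form.
-/

set_option autoImplicit false

namespace Cfsg.Agent.Lib.helper8.T3M

open Cfsg.Lie Cfsg.Lie.ChevalleyDatum Matrix
open Cfsg.Agent.Lib.helper8
open Cfsg.Agent.Lib.helper23.TD4V

universe u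

variable {K : Type u} [Field K]

theorem t3m_sl2_rk1 {a b u p : K} (hab : a * b = -1) (hp : p = -(b ^ 2 * u)) :
    h8slU a * h8slL b * h8slU a * h8slU u = h8slL p * (h8slU a * h8slL b * h8slU a) := by
  subst hp
  apply Subtype.ext
  simp only [Matrix.SpecialLinearGroup.coe_mul, h8slU_val, h8slL_val, Matrix.mul_fin_two]
  have h1 : ∀ x y z w x' y' z' w' : K, x = x' → y = y' → z = z' → w = w' → !![x, y; z, w] = !![x', y'; z', w'] := by
    intro x y z w x' y' z' w' h1 h2 h3 h4; rw [h1, h2, h3, h4]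
  apply h1
  · ring1
  · linear_combination u * hab
  · linear_combination (b ^ 2 * u) * hab
  · linear_combination (b * u * (1 + a * b)) * hab

theorem t3m_sl2_rk1' {a b u p : K} (hab : a * b = -1) (hp : p = -(a ^ 2 * u)) :
    h8slU a * h8slL b * h8slU a * h8slL u = h8slU p * (h8slU a * h8slL b * h8slU a) := by
  subst hp
  apply Subtype.ext
  simp only [Matrix.SpecialLinearGroup.coe_mul, h8slU_val, h8slL_val, Matrix.mul_fin_two]
  have h1 : ∀ x y z w x' y' z' w' : K, x = x' → y = y' → z = z' → w = w' → !![x, y; z, w] = !![x', y'; z', w'] := by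
    intro x y z w x' y' z' w' h1 h2 h3 h4; rw [h1, h2, h3, h4]
  apply h1
  · linear_combination (2 * a * u) * hab
  · linear_combination (a ^ 2 * u) * hab
  · linear_combination u * hab
  · ring1
/-- `n X_r(u) = X_{-r}(-b² u) n` for `n = X_r(a) X_{-r}(b) X_r(a)`, `a b = -1` -/
theorem t3m_rk1 (r r' : ℕ) (hrr : r + r' = 23) {a b u p : K} (hab : a * b = -1) (hp : p = -(b ^ 2 * u)) :
    (X r a * X r' b * X r a * X r u : GG K) = X r' p * (X r a * X r' b * X r a) := by
  have hr : r < 24 := by omega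
  have e : r' = 23 - r := by omega
  subst e
  obtain ⟨φ, hU, hL, -⟩ := phi_root (K := K) r hr
  have h := congrArg φ (t3m_sl2_rk1 hab hp)
  simpa only [map_mul, hU, hL] using h

/-- `n X_{-r}(u) = X_r(-a² u) n` for `n = X_r(a) X_{-r}(b) X_r(a)`, `a b = -1` -/
theorem t3m_rk1' (r r' : ℕ) (hrr : r + r' = 23) {a b u p : K} (hab : a * b = -1) (hp : p = -(a ^ 2 * u)) :
    (X r a * X r' b * X r a * X r' u : GG K) = X r p * (X r a * X r' b * X r a) := by
  have hr : r < 24 := by omega
  have e : r' = 23 - r := by omega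
  subst e
  obtain ⟨φ, hU, hL, -⟩ := phi_root (K := K) r hr
  have h := congrArg φ (t3m_sl2_rk1' hab hp)
  simpa only [map_mul, hU, hL] using h

/-- tail form of `t3m_rk1` -/
theorem t3m_rk1t (r r' : ℕ) (hrr : r + r' = 23) {a b u p : K} {z z' : GG K} (hab : a * b = -1)
    (hp : p = -(b ^ 2 * u)) (hz : z = z') :
    X r a * (X r' b * (X r a * (X r u * z))) = X r' p * (X r a * (X r' b * (X r a * z'))) := by
  subst hz
  have h := t3m_rk1 r r' hrr hab hp
  calc X r a * (X r' b * (X r a * (X r u * z))) = (X r a * X r' b * X r a * X r u) * z := by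
        simp only [mul_assoc]
    _ = X r' p * (X r a * (X r' b * (X r a * z))) := by rw [h]; simp only [mul_assoc]

/-- tail form of `t3m_rk1'` -/
theorem t3m_rk1t' (r r' : ℕ) (hrr : r + r' = 23) {a b u p : K} {z z' : GG K} (hab : a * b = -1)
    (hp : p = -(a ^ 2 * u)) (hz : z = z') :
    X r a * (X r' b * (X r a * (X r' u * z))) = X r p * (X r a * (X r' b * (X r a * z'))) := by
  subst hz
  have h := t3m_rk1' r r' hrr hab hp
  calc X r a * (X r' b * (X r a * (X r' u * z))) = (X r a * X r' b * X r a * X r' u) * z := by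
        simp only [mul_assoc]
    _ = X r p * (X r a * (X r' b * (X r a * z))) := by rw [h]; simp only [mul_assoc]

end Cfsg.Agent.Lib.helper8.T3M
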