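import Mathlib
import Cfsg.Agent.Lib.helper8.T3MColl
import Cfsg.Agent.Lib.helper8.T3M.Defs
import Cfsg.Agent.Lib.helper8.T3M.Rk1

/-!
# Project T3M (matrix side of S2110; designer helper8): generic identities, family `wl_l3` (machine generated)

Identities in `D₄(K)` between the orbit products `XS3 k a b c` (three INDEPENDENT parameters) and the long root elements `XL3 k c`;
the parameters of the result are variables `p_i` with hypotheses `p_i = …`.
Specialised at `(a, b, c) = (t, f t, f (f t))` they give the relations of helper17's `SysT` for `³D₄(q)` (files `R_*`).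
-/

set_option autoImplicit false
set_option linter.unusedSimpArgs false
set_option linter.unnecessarySeqFocus false
set_option linter.unreachableTactic false
set_option linter.unusedTactic false
set_option linter.unusedVariables false
set_option maxRecDepth 4000

namespace Cfsg.Agent.Lib.helper8.T3M

open Cfsg.Lie Cfsg.Lie.ChevalleyDatum Matrix
open Cfsg.Agent.Lib.helper8
open Cfsg.Agent.Lib.helper23.TD4V

universe u

variable {K : Type u} [Field K]


theorem t3mg_wl_l3_0 (c d : K) {p1 p2 : K} (hc : c ≠ 0) (hp1 : p1 = c⁻¹) (hp2 : p2 = ((c * c) * d)) :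
    (XL3 0 c * XL3 3 p1 * XL3 0 c * XL3 3 d : GG K) =
      XL3 0 p2 * (XL3 0 c * XL3 3 p1 * XL3 0 c) := by
  have key : (XL3 0 c * XL3 3 p1 * XL3 0 c * XL3 3 d : GG K) * 1 = (XL3 0 p2 * (XL3 0 c * XL3 3 p1 * XL3 0 c)) * 1 := by
    subst hp1 hp2
    simp only [XL3_0, XL3_3, mul_assoc]
    exact t3m_rk1t' 22 1 (by norm_num) (by first | rfl | ring1 | (field_simp; ring1) | (field_simp; first | done | fail)) (by first | rfl | ring1 | (field_simp; ring1) | (field_simp; first | done | fail)) rfl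
  exact (mul_one _).symm.trans (key.trans (mul_one _))

theorem t3mg_wl_l3_1 (c d : K) {p1 p2 : K} (hc : c ≠ 0) (hp1 : p1 = c⁻¹) (hp2 : p2 = ((c * c) * d)) :
    (XL3 1 c * XL3 4 p1 * XL3 1 c * XL3 4 d : GG K) =
      XL3 1 p2 * (XL3 1 c * XL3 4 p1 * XL3 1 c) := by
  have key : (XL3 1 c * XL3 4 p1 * XL3 1 c * XL3 4 d : GG K) * 1 = (XL3 1 p2 * (XL3 1 c * XL3 4 p1 * XL3 1 c)) * 1 := by
    subst hp1 hp2
    simp only [XL3_1, XL3_4, mul_assoc]
    exact t3m_rk1t' 23 0 (by norm_num) (by first | rfl | ring1 | (field_simp; ring1) | (field_simp; first | done | fail)) (by first | rfl | ring1 | (field_simp; ring1) | (field_simp; first | done | fail)) rfl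
  exact (mul_one _).symm.trans (key.trans (mul_one _))

theorem t3mg_wl_l3_2 (c d : K) {p1 p2 : K} (hc : c ≠ 0) (hp1 : p1 = c⁻¹) (hp2 : p2 = ((c * c) * d)) :
    (XL3 2 c * XL3 5 p1 * XL3 2 c * XL3 5 d : GG K) =
      XL3 2 p2 * (XL3 2 c * XL3 5 p1 * XL3 2 c) := by
  have key : (XL3 2 c * XL3 5 p1 * XL3 2 c * XL3 5 d : GG K) * 1 = (XL3 2 p2 * (XL3 2 c * XL3 5 p1 * XL3 2 c)) * 1 := by
    subst hp1 hp2
    simp only [XL3_2, XL3_5, mul_assoc]
    exact t3m_rk1t' 14 9 (by norm_num) (by first | rfl | ring1 | (field_simp; ring1) | (field_simp; first | done | fail)) (by first | rfl | ring1 | (field_simp; ring1) | (field_simp; first | done | fail)) rfl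
  exact (mul_one _).symm.trans (key.trans (mul_one _))

theorem t3mg_wl_l3_3 (c d : K) {p1 p2 : K} (hc : c ≠ 0) (hp1 : p1 = c⁻¹) (hp2 : p2 = ((c * c) * d)) :
    (XL3 3 c * XL3 0 p1 * XL3 3 c * XL3 0 d : GG K) =
      XL3 3 p2 * (XL3 3 c * XL3 0 p1 * XL3 3 c) := by
  have key : (XL3 3 c * XL3 0 p1 * XL3 3 c * XL3 0 d : GG K) * 1 = (XL3 3 p2 * (XL3 3 c * XL3 0 p1 * XL3 3 c)) * 1 := by
    subst hp1 hp2
    simp only [XL3_0, XL3_3, mul_assoc]
    exact t3m_rk1t' 1 22 (by norm_num) (by first | rfl | ring1 | (field_simp; ring1) | (field_simp; first | done | fail)) (by first | rfl | ring1 | (field_simp; ring1) | (field_simp; first | done | fail)) rfl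
  exact (mul_one _).symm.trans (key.trans (mul_one _))

theorem t3mg_wl_l3_4 (c d : K) {p1 p2 : K} (hc : c ≠ 0) (hp1 : p1 = c⁻¹) (hp2 : p2 = ((c * c) * d)) :
    (XL3 4 c * XL3 1 p1 * XL3 4 c * XL3 1 d : GG K) =
      XL3 4 p2 * (XL3 4 c * XL3 1 p1 * XL3 4 c) := by
  have key : (XL3 4 c * XL3 1 p1 * XL3 4 c * XL3 1 d : GG K) * 1 = (XL3 4 p2 * (XL3 4 c * XL3 1 p1 * XL3 4 c)) * 1 := by
    subst hp1 hp2
    simp only [XL3_1, XL3_4, mul_assoc]
    exact t3m_rk1t' 0 23 (by norm_num) (by first | rfl | ring1 | (field_simp; ring1) | (field_simp; first | done | fail)) (by first | rfl | ring1 | (field_simp; ring1) | (field_simp; first | done | fail)) rfl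
  exact (mul_one _).symm.trans (key.trans (mul_one _))

theorem t3mg_wl_l3_5 (c d : K) {p1 p2 : K} (hc : c ≠ 0) (hp1 : p1 = c⁻¹) (hp2 : p2 = ((c * c) * d)) :
    (XL3 5 c * XL3 2 p1 * XL3 5 c * XL3 2 d : GG K) =
      XL3 5 p2 * (XL3 5 c * XL3 2 p1 * XL3 5 c) := by
  have key : (XL3 5 c * XL3 2 p1 * XL3 5 c * XL3 2 d : GG K) * 1 = (XL3 5 p2 * (XL3 5 c * XL3 2 p1 * XL3 5 c)) * 1 := by
    subst hp1 hp2
    simp only [XL3_2, XL3_5, mul_assoc]
    exact t3m_rk1t' 9 14 (by norm_num) (by first | rfl | ring1 | (field_simp; ring1) | (field_simp; first | done | fail)) (by first | rfl | ring1 | (field_simp; ring1) | (field_simp; first | done | fail)) rfl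
  exact (mul_one _).symm.trans (key.trans (mul_one _))

end Cfsg.Agent.Lib.helper8.T3M
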