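import Mathlib
import Cfsg.Agent.Lib.helper8.T3MColl
import Cfsg.Agent.Lib.helper8.T3M.Defs

/-!
# Project T3M (matrix side of S2110; designer helper8): generic identities, family `wl_s0` (machine generated)

Identities in `D₄(K)` between the orbit products `XS3 k a b c` (three INDEPENDENT parameters) and the long root elements `XL3 k c`;
the parameters of the result are variables `p_i` with hypotheses `p_i = …`.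
Specialised at `(a, b, c) = (t, f t, f (f t))` they give the relations of helper17's `SysT` for `³D₄(q)` (files `R_*`).
-/

set_option autoImplicit false
set_option linter.unusedSimpArgs false
set_option linter.unnecessarySeqFocus false
set_option linter.unreachableTactic false
set_option linter.unusedTactic false
set_option linter.unusedVariables false
set_option maxRecDepth 4000

namespace Cfsg.Agent.Lib.helper8.T3M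

open Cfsg.Lie Cfsg.Lie.ChevalleyDatum Matrix
open Cfsg.Agent.Lib.helper8
open Cfsg.Agent.Lib.helper23.TD4V

universe u

variable {K : Type u} [Field K]

attribute [local irreducible] X

set_option maxHeartbeats 1600000 in
theorem t3mg_wl_s0_0 (c u0 u1 u2 : K) {p1 p2 p3 p4 : K} (hc : c ≠ 0) (hp1 : p1 = c⁻¹) (hp2 : p2 = (-(c⁻¹ * u0))) (hp3 : p3 = (-(c⁻¹ * u1))) (hp4 : p4 = (-(c⁻¹ * u2))) :
    (XL3 0 c * XL3 3 p1 * XL3 0 c * XS3 0 u0 u1 u2 : GG K) =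
      XS3 4 p2 p3 p4 * (XL3 0 c * XL3 3 p1 * XL3 0 c) := by
  have key : (XL3 0 c * XL3 3 p1 * XL3 0 c * XS3 0 u0 u1 u2 : GG K) * 1 = (XS3 4 p2 p3 p4 * (XL3 0 c * XL3 3 p1 * XL3 0 c)) * 1 := by
    subst hp1 hp2 hp3 hp4
    simp only [XS3_0, XS3_4, XL3_0, XL3_3, mul_assoc, t3mc_t_2_1, t3mc_t_2_3, t3mc_t_2_4, t3mc_t_2_6, t3mc_t_2_7, t3mc_t_2_8, t3mc_t_2_9, t3mc_t_2_12, t3mc_t_2_13, t3mc_t_2_18, t3mc_t_2_22, t3mc_t_3_1, t3mc_t_3_4, t3mc_t_3_6, t3mc_t_3_7, t3mc_t_3_8, t3mc_t_3_9, t3mc_t_3_12, t3mc_t_3_13, t3mc_t_3_18, t3mc_t_3_22, t3mc_t_4_1, t3mc_t_4_6, t3mc_t_4_7, t3mc_t_4_8, t3mc_t_4_9, t3mc_t_4_12, t3mc_t_4_13, t3mc_t_4_18, t3mc_t_4_22, t3mc_t_6_1, t3mc_t_6_7, t3mc_t_6_8, t3mc_t_6_9, t3mc_t_6_12, t3mc_t_6_13, t3mc_t_6_18, t3mc_t_6_22, t3mc_t_7_1, t3mc_t_7_8, t3mc_t_7_9, t3mc_t_7_12, t3mc_t_7_13, t3mc_t_7_18, t3mc_t_7_22,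 t3mc_t_8_1, t3mc_t_8_9, t3mc_t_8_12, t3mc_t_8_13, t3mc_t_8_18, t3mc_t_8_22, t3mc_t_9_1, t3mc_t_9_12, t3mc_t_9_13, t3mc_t_9_18, t3mc_t_9_22, t3mc_t_12_1, t3mc_t_12_13, t3mc_t_12_18, t3mc_t_12_22, t3mc_t_13_1, t3mc_t_13_18, t3mc_t_13_22, t3mc_t_18_1, t3mc_t_18_22, t3mc_m_1, t3mc_m_2, t3mc_m_3, t3mc_m_4, t3mc_m_6, t3mc_m_7, t3mc_m_8, t3mc_m_9, t3mc_m_12, t3mc_m_13, t3mc_m_18, t3mc_m_22] <;>
    repeat (first
      | with_reducible rfl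
      | refine t3mc_cs (by first | rfl | ring1 | (field_simp; ring1) | (field_simp; first | done | fail)) ?_
      | refine t3mc_skL (by first | rfl | ring1 | (field_simp; ring1) | (field_simp; first | done | fail)) ?_
      | refine t3mc_skR (by first | rfl | ring1 | (field_simp; ring1) | (field_simp; first | done | fail)) ?_)
  exact (mul_one _).symm.trans (key.trans (mul_one _))

set_option maxHeartbeats 1600000 in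
theorem t3mg_wl_s0_1 (c u0 u1 u2 : K) {p1 p2 p3 p4 : K} (hc : c ≠ 0) (hp1 : p1 = c⁻¹) (hp2 : p2 = (-(c⁻¹ * u0))) (hp3 : p3 = (-(c⁻¹ * u1))) (hp4 : p4 = (-(c⁻¹ * u2))) :
    (XL3 1 c * XL3 4 p1 * XL3 1 c * XS3 1 u0 u1 u2 : GG K) =
      XS3 5 p2 p3 p4 * (XL3 1 c * XL3 4 p1 * XL3 1 c) := by
  have key : (XL3 1 c * XL3 4 p1 * XL3 1 c * XS3 1 u0 u1 u2 : GG K) * 1 = (XS3 5 p2 p3 p4 * (XL3 1 c * XL3 4 p1 * XL3 1 c)) * 1 := by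
    subst hp1 hp2 hp3 hp4
    simp only [XS3_1, XS3_5, XL3_1, XL3_4, mul_assoc, t3mc_t_4_0, t3mc_t_4_7, t3mc_t_4_8, t3mc_t_4_9, t3mc_t_4_12, t3mc_t_4_13, t3mc_t_4_17, t3mc_t_4_18, t3mc_t_4_20, t3mc_t_4_21, t3mc_t_4_22, t3mc_t_4_23, t3mc_t_7_0, t3mc_t_7_8, t3mc_t_7_9, t3mc_t_7_12, t3mc_t_7_13, t3mc_t_7_17, t3mc_t_7_18, t3mc_t_7_20, t3mc_t_7_21, t3mc_t_7_22, t3mc_t_7_23, t3mc_t_8_0, t3mc_t_8_9, t3mc_t_8_12, t3mc_t_8_13, t3mc_t_8_17, t3mc_t_8_18, t3mc_t_8_20, t3mc_t_8_21, t3mc_t_8_22, t3mc_t_8_23, t3mc_t_9_0, t3mc_t_9_12, t3mc_t_9_13, t3mc_t_9_17, t3mc_t_9_18, t3mc_t_9_20, t3mc_t_9_21, t3mc_t_9_22, t3mc_t_9_23, t3mc_t_12_0, t3mc_t_12_13, t3mc_t_12_17, t3mc_t_12_18, t3mc_t_12_20, t3mc_t_12_21, t3mc_t_12_22, t3mc_t_12_23, t3mc_t_13_0, t3mc_t_13_17, t3mc_t_13_18, t3mc_t_13_20, t3mc_t_13_21, t3mc_t_13_22, t3mc_t_13_23, t3mc_t_17_0,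 t3mc_t_17_18, t3mc_t_17_20, t3mc_t_17_21, t3mc_t_17_22, t3mc_t_17_23, t3mc_t_18_0, t3mc_t_18_20, t3mc_t_18_21, t3mc_t_18_22, t3mc_t_18_23, t3mc_t_20_0, t3mc_t_20_21, t3mc_t_20_22, t3mc_t_20_23, t3mc_t_21_0, t3mc_t_21_22, t3mc_t_21_23, t3mc_t_22_0, t3mc_t_22_23, t3mc_m_0, t3mc_m_4, t3mc_m_7, t3mc_m_8, t3mc_m_9, t3mc_m_12, t3mc_m_13, t3mc_m_17, t3mc_m_18, t3mc_m_20, t3mc_m_21, t3mc_m_22, t3mc_m_23] <;>
    repeat (first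
      | with_reducible rfl
      | refine t3mc_cs (by first | rfl | ring1 | (field_simp; ring1) | (field_simp; first | done | fail)) ?_
      | refine t3mc_skL (by first | rfl | ring1 | (field_simp; ring1) | (field_simp; first | done | fail)) ?_
      | refine t3mc_skR (by first | rfl | ring1 | (field_simp; ring1) | (field_simp; first | done | fail)) ?_)
  exact (mul_one _).symm.trans (key.trans (mul_one _))

set_option maxHeartbeats 1600000 in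
theorem t3mg_wl_s0_2 (c u0 u1 u2 : K) {p1 p2 p3 p4 : K} (hc : c ≠ 0) (hp1 : p1 = c⁻¹) (hp2 : p2 = (-(c⁻¹ * u0))) (hp3 : p3 = (-(c⁻¹ * u1))) (hp4 : p4 = (-(c⁻¹ * u2))) :
    (XL3 2 c * XL3 5 p1 * XL3 2 c * XS3 2 u0 u1 u2 : GG K) =
      XS3 0 p2 p3 p4 * (XL3 2 c * XL3 5 p1 * XL3 2 c) := by
  have key : (XL3 2 c * XL3 5 p1 * XL3 2 c * XS3 2 u0 u1 u2 : GG K) * 1 = (XS3 0 p2 p3 p4 * (XL3 2 c * XL3 5 p1 * XL3 2 c)) * 1 := by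
    subst hp1 hp2 hp3 hp4
    simp only [XS3_0, XS3_2, XL3_2, XL3_5, mul_assoc, t3mc_t_12_9, t3mc_t_12_13, t3mc_t_12_14, t3mc_t_12_15, t3mc_t_12_16, t3mc_t_12_17, t3mc_t_12_18, t3mc_t_12_19, t3mc_t_13_9, t3mc_t_13_14, t3mc_t_13_15, t3mc_t_13_16, t3mc_t_13_17, t3mc_t_13_18, t3mc_t_13_19, t3mc_t_15_9, t3mc_t_15_14, t3mc_t_15_16, t3mc_t_15_17, t3mc_t_15_18, t3mc_t_15_19, t3mc_t_16_9, t3mc_t_16_14, t3mc_t_16_17, t3mc_t_16_18, t3mc_t_16_19, t3mc_t_17_9, t3mc_t_17_14, t3mc_t_17_18, t3mc_t_17_19, t3mc_t_18_9, t3mc_t_18_14, t3mc_t_18_19, t3mc_t_19_9, t3mc_t_19_14, t3mc_m_9, t3mc_m_12, t3mc_m_13, t3mc_m_14, t3mc_m_15, t3mc_m_16, t3mc_m_17, t3mc_m_18, t3mc_m_19] <;>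
    repeat (first
      | with_reducible rfl
      | refine t3mc_cs (by first | rfl | ring1 | (field_simp; ring1) | (field_simp; first | done | fail)) ?_
      | refine t3mc_skL (by first | rfl | ring1 | (field_simp; ring1) | (field_simp; first | done | fail)) ?_
      | refine t3mc_skR (by first | rfl | ring1 | (field_simp; ring1) | (field_simp; first | done | fail)) ?_)
  exact (mul_one _).symm.trans (key.trans (mul_one _))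

set_option maxHeartbeats 1600000 in
theorem t3mg_wl_s0_3 (c u0 u1 u2 : K) {p1 p2 p3 p4 : K} (hc : c ≠ 0) (hp1 : p1 = c⁻¹) (hp2 : p2 = (-(c⁻¹ * u0))) (hp3 : p3 = (-(c⁻¹ * u1))) (hp4 : p4 = (-(c⁻¹ * u2))) :
    (XL3 3 c * XL3 0 p1 * XL3 3 c * XS3 3 u0 u1 u2 : GG K) =
      XS3 1 p2 p3 p4 * (XL3 3 c * XL3 0 p1 * XL3 3 c) := by
  have key : (XL3 3 c * XL3 0 p1 * XL3 3 c * XS3 3 u0 u1 u2 : GG K) * 1 = (XS3 1 p2 p3 p4 * (XL3 3 c * XL3 0 p1 * XL3 3 c)) * 1 := by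
    subst hp1 hp2 hp3 hp4
    simp only [XS3_1, XS3_3, XL3_0, XL3_3, mul_assoc, t3mc_t_5_1, t3mc_t_5_10, t3mc_t_5_11, t3mc_t_5_14, t3mc_t_5_15, t3mc_t_5_16, t3mc_t_5_17, t3mc_t_5_19, t3mc_t_5_20, t3mc_t_5_21, t3mc_t_5_22, t3mc_t_5_23, t3mc_t_10_1, t3mc_t_10_11, t3mc_t_10_14, t3mc_t_10_15, t3mc_t_10_16, t3mc_t_10_17, t3mc_t_10_19, t3mc_t_10_20, t3mc_t_10_21, t3mc_t_10_22, t3mc_t_10_23, t3mc_t_11_1, t3mc_t_11_14, t3mc_t_11_15, t3mc_t_11_16, t3mc_t_11_17, t3mc_t_11_19, t3mc_t_11_20, t3mc_t_11_21, t3mc_t_11_22, t3mc_t_11_23, t3mc_t_14_1, t3mc_t_14_15, t3mc_t_14_16, t3mc_t_14_17, t3mc_t_14_19, t3mc_t_14_20, t3mc_t_14_21, t3mc_t_14_22, t3mc_t_14_23, t3mc_t_15_1, t3mc_t_15_16, t3mc_t_15_17, t3mc_t_15_19, t3mc_t_15_20, t3mc_t_15_21, t3mc_t_15_22, t3mc_t_15_23, t3mc_t_16_1, t3mc_t_16_17, t3mc_t_16_19, t3mc_t_16_20, t3mc_t_16_21,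 t3mc_t_16_22, t3mc_t_16_23, t3mc_t_17_1, t3mc_t_17_19, t3mc_t_17_20, t3mc_t_17_21, t3mc_t_17_22, t3mc_t_17_23, t3mc_t_19_1, t3mc_t_19_20, t3mc_t_19_21, t3mc_t_19_22, t3mc_t_19_23, t3mc_t_20_1, t3mc_t_20_21, t3mc_t_20_22, t3mc_t_20_23, t3mc_t_21_1, t3mc_t_21_22, t3mc_t_21_23, t3mc_t_23_1, t3mc_t_23_22, t3mc_m_1, t3mc_m_5, t3mc_m_10, t3mc_m_11, t3mc_m_14, t3mc_m_15, t3mc_m_16, t3mc_m_17, t3mc_m_19, t3mc_m_20, t3mc_m_21, t3mc_m_22, t3mc_m_23] <;>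
    repeat (first
      | with_reducible rfl
      | refine t3mc_cs (by first | rfl | ring1 | (field_simp; ring1) | (field_simp; first | done | fail)) ?_
      | refine t3mc_skL (by first | rfl | ring1 | (field_simp; ring1) | (field_simp; first | done | fail)) ?_
      | refine t3mc_skR (by first | rfl | ring1 | (field_simp; ring1) | (field_simp; first | done | fail)) ?_)
  exact (mul_one _).symm.trans (key.trans (mul_one _))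

set_option maxHeartbeats 1600000 in
theorem t3mg_wl_s0_4 (c u0 u1 u2 : K) {p1 p2 p3 p4 : K} (hc : c ≠ 0) (hp1 : p1 = c⁻¹) (hp2 : p2 = (-(c⁻¹ * u0))) (hp3 : p3 = (-(c⁻¹ * u1))) (hp4 : p4 = (-(c⁻¹ * u2))) :
    (XL3 4 c * XL3 1 p1 * XL3 4 c * XS3 4 u0 u1 u2 : GG K) =
      XS3 2 p2 p3 p4 * (XL3 4 c * XL3 1 p1 * XL3 4 c) := by
  have key : (XL3 4 c * XL3 1 p1 * XL3 4 c * XS3 4 u0 u1 u2 : GG K) * 1 = (XS3 2 p2 p3 p4 * (XL3 4 c * XL3 1 p1 * XL3 4 c)) * 1 := by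
    subst hp1 hp2 hp3 hp4
    simp only [XS3_2, XS3_4, XL3_1, XL3_4, mul_assoc, t3mc_t_1_0, t3mc_t_1_2, t3mc_t_1_3, t3mc_t_1_5, t3mc_t_1_6, t3mc_t_1_10, t3mc_t_1_11, t3mc_t_1_14, t3mc_t_1_15, t3mc_t_1_16, t3mc_t_1_19, t3mc_t_1_23, t3mc_t_2_0, t3mc_t_2_3, t3mc_t_2_5, t3mc_t_2_6, t3mc_t_2_10, t3mc_t_2_11, t3mc_t_2_14, t3mc_t_2_15, t3mc_t_2_16, t3mc_t_2_19, t3mc_t_2_23, t3mc_t_3_0, t3mc_t_3_5, t3mc_t_3_6, t3mc_t_3_10, t3mc_t_3_11, t3mc_t_3_14, t3mc_t_3_15, t3mc_t_3_16, t3mc_t_3_19, t3mc_t_3_23, t3mc_t_5_0, t3mc_t_5_6, t3mc_t_5_10, t3mc_t_5_11, t3mc_t_5_14, t3mc_t_5_15, t3mc_t_5_16, t3mc_t_5_19, t3mc_t_5_23, t3mc_t_6_0, t3mc_t_6_10, t3mc_t_6_11, t3mc_t_6_14, t3mc_t_6_15, t3mc_t_6_16, t3mc_t_6_19, t3mc_t_6_23, t3mc_t_10_0, t3mc_t_10_11, t3mc_t_10_14, t3mc_t_10_15, t3mc_t_10_16, t3mc_t_10_19, t3mc_t_10_23, t3mc_t_11_0, t3mc_t_11_14,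 t3mc_t_11_15, t3mc_t_11_16, t3mc_t_11_19, t3mc_t_11_23, t3mc_t_14_0, t3mc_t_14_15, t3mc_t_14_16, t3mc_t_14_19, t3mc_t_14_23, t3mc_t_15_0, t3mc_t_15_16, t3mc_t_15_19, t3mc_t_15_23, t3mc_t_16_0, t3mc_t_16_19, t3mc_t_16_23, t3mc_t_19_0, t3mc_t_19_23, t3mc_m_0, t3mc_m_1, t3mc_m_2, t3mc_m_3, t3mc_m_5, t3mc_m_6, t3mc_m_10, t3mc_m_11, t3mc_m_14, t3mc_m_15, t3mc_m_16, t3mc_m_19, t3mc_m_23] <;>
    repeat (first
      | with_reducible rfl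
      | refine t3mc_cs (by first | rfl | ring1 | (field_simp; ring1) | (field_simp; first | done | fail)) ?_
      | refine t3mc_skL (by first | rfl | ring1 | (field_simp; ring1) | (field_simp; first | done | fail)) ?_
      | refine t3mc_skR (by first | rfl | ring1 | (field_simp; ring1) | (field_simp; first | done | fail)) ?_)
  exact (mul_one _).symm.trans (key.trans (mul_one _))

set_option maxHeartbeats 1600000 in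
theorem t3mg_wl_s0_5 (c u0 u1 u2 : K) {p1 p2 p3 p4 : K} (hc : c ≠ 0) (hp1 : p1 = c⁻¹) (hp2 : p2 = (-(c⁻¹ * u0))) (hp3 : p3 = (-(c⁻¹ * u1))) (hp4 : p4 = (-(c⁻¹ * u2))) :
    (XL3 5 c * XL3 2 p1 * XL3 5 c * XS3 5 u0 u1 u2 : GG K) =
      XS3 3 p2 p3 p4 * (XL3 5 c * XL3 2 p1 * XL3 5 c) := by
  have key : (XL3 5 c * XL3 2 p1 * XL3 5 c * XS3 5 u0 u1 u2 : GG K) * 1 = (XS3 3 p2 p3 p4 * (XL3 5 c * XL3 2 p1 * XL3 5 c)) * 1 := by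
    subst hp1 hp2 hp3 hp4
    simp only [XS3_3, XS3_5, XL3_2, XL3_5, mul_assoc, t3mc_t_4_5, t3mc_t_4_6, t3mc_t_4_7, t3mc_t_4_8, t3mc_t_4_9, t3mc_t_4_10, t3mc_t_4_11, t3mc_t_4_14, t3mc_t_5_6, t3mc_t_5_7, t3mc_t_5_8, t3mc_t_5_9, t3mc_t_5_10, t3mc_t_5_11, t3mc_t_5_14, t3mc_t_6_7, t3mc_t_6_8, t3mc_t_6_9, t3mc_t_6_10, t3mc_t_6_11, t3mc_t_6_14, t3mc_t_7_8, t3mc_t_7_9, t3mc_t_7_10, t3mc_t_7_11, t3mc_t_7_14, t3mc_t_8_9, t3mc_t_8_10, t3mc_t_8_11, t3mc_t_8_14, t3mc_t_10_9, t3mc_t_10_11, t3mc_t_10_14, t3mc_t_11_9, t3mc_t_11_14, t3mc_m_4, t3mc_m_5, t3mc_m_6, t3mc_m_7, t3mc_m_8, t3mc_m_9, t3mc_m_10, t3mc_m_11, t3mc_m_14] <;>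
    repeat (first
      | with_reducible rfl
      | refine t3mc_cs (by first | rfl | ring1 | (field_simp; ring1) | (field_simp; first | done | fail)) ?_
      | refine t3mc_skL (by first | rfl | ring1 | (field_simp; ring1) | (field_simp; first | done | fail)) ?_
      | refine t3mc_skR (by first | rfl | ring1 | (field_simp; ring1) | (field_simp; first | done | fail)) ?_)
  exact (mul_one _).symm.trans (key.trans (mul_one _))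

end Cfsg.Agent.Lib.helper8.T3M
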