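import Mathlib
import Cfsg.Agent.Lib.helper8.T3MColl
import Cfsg.Agent.Lib.helper8.T3M.Defs

/-!
# Project T3M (matrix side of S2110; designer helper8): generic identities, family `wl_s5` (machine generated)

Identities in `D₄(K)` between the orbit products `XS3 k a b c` (three INDEPENDENT parameters) and the long root elements `XL3 k c`;
the parameters of the result are variables `p_i` with hypotheses `p_i = …`.
Specialised at `(a, b, c) = (t, f t, f (f t))` they give the relations of helper17's `SysT` for `³D₄(q)` (files `R_*`).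
-/

set_option autoImplicit false
set_option linter.unusedSimpArgs false
set_option linter.unnecessarySeqFocus false
set_option linter.unreachableTactic false
set_option linter.unusedTactic false
set_option linter.unusedVariables false
set_option maxRecDepth 4000

namespace Cfsg.Agent.Lib.helper8.T3M

open Cfsg.Lie Cfsg.Lie.ChevalleyDatum Matrix
open Cfsg.Agent.Lib.helper8
open Cfsg.Agent.Lib.helper23.TD4V

universe u

variable {K : Type u} [Field K]

attribute [local irreducible] X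

set_option maxHeartbeats 1600000 in
theorem t3mg_wl_s5_0 (c u0 u1 u2 : K) {p1 : K} (hc : c ≠ 0) (hp1 : p1 = c⁻¹) :
    (XL3 0 c * XL3 3 p1 * XL3 0 c * XS3 5 u0 u1 u2 : GG K) =
      XS3 5 u0 u1 u2 * (XL3 0 c * XL3 3 p1 * XL3 0 c) := by
  have key : (XL3 0 c * XL3 3 p1 * XL3 0 c * XS3 5 u0 u1 u2 : GG K) * 1 = (XS3 5 u0 u1 u2 * (XL3 0 c * XL3 3 p1 * XL3 0 c)) * 1 := by
    subst hp1
    simp only [XS3_5, XL3_0, XL3_3, mul_assoc, t3mc_t_4_1, t3mc_t_4_7, t3mc_t_4_8, t3mc_t_4_22, t3mc_t_7_1, t3mc_t_7_8, t3mc_t_7_22, t3mc_t_8_1, t3mc_t_8_22, t3mc_m_1, t3mc_m_4, t3mc_m_7, t3mc_m_8, t3mc_m_22] <;>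
    repeat (first
      | with_reducible rfl
      | refine t3mc_cs (by first | rfl | ring1 | (field_simp; ring1) | (field_simp; first | done | fail)) ?_
      | refine t3mc_skL (by first | rfl | ring1 | (field_simp; ring1) | (field_simp; first | done | fail)) ?_
      | refine t3mc_skR (by first | rfl | ring1 | (field_simp; ring1) | (field_simp; first | done | fail)) ?_)
  exact (mul_one _).symm.trans (key.trans (mul_one _))

set_option maxHeartbeats 1600000 in
theorem t3mg_wl_s5_1 (c u0 u1 u2 : K) {p1 : K} (hc : c ≠ 0) (hp1 : p1 = c⁻¹) :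
    (XL3 1 c * XL3 4 p1 * XL3 1 c * XS3 0 u0 u1 u2 : GG K) =
      XS3 0 u0 u1 u2 * (XL3 1 c * XL3 4 p1 * XL3 1 c) := by
  have key : (XL3 1 c * XL3 4 p1 * XL3 1 c * XS3 0 u0 u1 u2 : GG K) * 1 = (XS3 0 u0 u1 u2 * (XL3 1 c * XL3 4 p1 * XL3 1 c)) * 1 := by
    subst hp1
    simp only [XS3_0, XL3_1, XL3_4, mul_assoc, t3mc_t_12_0, t3mc_t_12_13, t3mc_t_12_18, t3mc_t_12_23, t3mc_t_13_0, t3mc_t_13_18, t3mc_t_13_23, t3mc_t_18_0, t3mc_t_18_23, t3mc_m_0, t3mc_m_12, t3mc_m_13, t3mc_m_18, t3mc_m_23] <;>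
    repeat (first
      | with_reducible rfl
      | refine t3mc_cs (by first | rfl | ring1 | (field_simp; ring1) | (field_simp; first | done | fail)) ?_
      | refine t3mc_skL (by first | rfl | ring1 | (field_simp; ring1) | (field_simp; first | done | fail)) ?_
      | refine t3mc_skR (by first | rfl | ring1 | (field_simp; ring1) | (field_simp; first | done | fail)) ?_)
  exact (mul_one _).symm.trans (key.trans (mul_one _))

set_option maxHeartbeats 1600000 in
theorem t3mg_wl_s5_2 (c u0 u1 u2 : K) {p1 : K} (hc : c ≠ 0) (hp1 : p1 = c⁻¹) :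
    (XL3 2 c * XL3 5 p1 * XL3 2 c * XS3 1 u0 u1 u2 : GG K) =
      XS3 1 u0 u1 u2 * (XL3 2 c * XL3 5 p1 * XL3 2 c) := by
  have key : (XL3 2 c * XL3 5 p1 * XL3 2 c * XS3 1 u0 u1 u2 : GG K) * 1 = (XS3 1 u0 u1 u2 * (XL3 2 c * XL3 5 p1 * XL3 2 c)) * 1 := by
    subst hp1
    simp only [XS3_1, XL3_2, XL3_5, mul_assoc, t3mc_t_17_9, t3mc_t_17_14, t3mc_t_17_20, t3mc_t_17_21, t3mc_t_20_9, t3mc_t_20_14, t3mc_t_20_21, t3mc_t_21_9, t3mc_t_21_14, t3mc_m_9, t3mc_m_14, t3mc_m_17, t3mc_m_20, t3mc_m_21] <;>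
    repeat (first
      | with_reducible rfl
      | refine t3mc_cs (by first | rfl | ring1 | (field_simp; ring1) | (field_simp; first | done | fail)) ?_
      | refine t3mc_skL (by first | rfl | ring1 | (field_simp; ring1) | (field_simp; first | done | fail)) ?_
      | refine t3mc_skR (by first | rfl | ring1 | (field_simp; ring1) | (field_simp; first | done | fail)) ?_)
  exact (mul_one _).symm.trans (key.trans (mul_one _))

set_option maxHeartbeats 1600000 in
theorem t3mg_wl_s5_3 (c u0 u1 u2 : K) {p1 : K} (hc : c ≠ 0) (hp1 : p1 = c⁻¹) :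
    (XL3 3 c * XL3 0 p1 * XL3 3 c * XS3 2 u0 u1 u2 : GG K) =
      XS3 2 u0 u1 u2 * (XL3 3 c * XL3 0 p1 * XL3 3 c) := by
  have key : (XL3 3 c * XL3 0 p1 * XL3 3 c * XS3 2 u0 u1 u2 : GG K) * 1 = (XS3 2 u0 u1 u2 * (XL3 3 c * XL3 0 p1 * XL3 3 c)) * 1 := by
    subst hp1
    simp only [XS3_2, XL3_0, XL3_3, mul_assoc, t3mc_t_15_1, t3mc_t_15_16, t3mc_t_15_19, t3mc_t_15_22, t3mc_t_16_1, t3mc_t_16_19, t3mc_t_16_22, t3mc_t_19_1, t3mc_t_19_22, t3mc_m_1, t3mc_m_15, t3mc_m_16, t3mc_m_19, t3mc_m_22] <;>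
    repeat (first
      | with_reducible rfl
      | refine t3mc_cs (by first | rfl | ring1 | (field_simp; ring1) | (field_simp; first | done | fail)) ?_
      | refine t3mc_skL (by first | rfl | ring1 | (field_simp; ring1) | (field_simp; first | done | fail)) ?_
      | refine t3mc_skR (by first | rfl | ring1 | (field_simp; ring1) | (field_simp; first | done | fail)) ?_)
  exact (mul_one _).symm.trans (key.trans (mul_one _))

set_option maxHeartbeats 1600000 in
theorem t3mg_wl_s5_4 (c u0 u1 u2 : K) {p1 : K} (hc : c ≠ 0) (hp1 : p1 = c⁻¹) :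
    (XL3 4 c * XL3 1 p1 * XL3 4 c * XS3 3 u0 u1 u2 : GG K) =
      XS3 3 u0 u1 u2 * (XL3 4 c * XL3 1 p1 * XL3 4 c) := by
  have key : (XL3 4 c * XL3 1 p1 * XL3 4 c * XS3 3 u0 u1 u2 : GG K) * 1 = (XS3 3 u0 u1 u2 * (XL3 4 c * XL3 1 p1 * XL3 4 c)) * 1 := by
    subst hp1
    simp only [XS3_3, XL3_1, XL3_4, mul_assoc, t3mc_t_5_0, t3mc_t_5_10, t3mc_t_5_11, t3mc_t_5_23, t3mc_t_10_0, t3mc_t_10_11, t3mc_t_10_23, t3mc_t_11_0, t3mc_t_11_23, t3mc_m_0, t3mc_m_5, t3mc_m_10, t3mc_m_11, t3mc_m_23] <;>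
    repeat (first
      | with_reducible rfl
      | refine t3mc_cs (by first | rfl | ring1 | (field_simp; ring1) | (field_simp; first | done | fail)) ?_
      | refine t3mc_skL (by first | rfl | ring1 | (field_simp; ring1) | (field_simp; first | done | fail)) ?_
      | refine t3mc_skR (by first | rfl | ring1 | (field_simp; ring1) | (field_simp; first | done | fail)) ?_)
  exact (mul_one _).symm.trans (key.trans (mul_one _))

set_option maxHeartbeats 1600000 in
theorem t3mg_wl_s5_5 (c u0 u1 u2 : K) {p1 : K} (hc : c ≠ 0) (hp1 : p1 = c⁻¹) :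
    (XL3 5 c * XL3 2 p1 * XL3 5 c * XS3 4 u0 u1 u2 : GG K) =
      XS3 4 u0 u1 u2 * (XL3 5 c * XL3 2 p1 * XL3 5 c) := by
  have key : (XL3 5 c * XL3 2 p1 * XL3 5 c * XS3 4 u0 u1 u2 : GG K) * 1 = (XS3 4 u0 u1 u2 * (XL3 5 c * XL3 2 p1 * XL3 5 c)) * 1 := by
    subst hp1
    simp only [XS3_4, XL3_2, XL3_5, mul_assoc, t3mc_t_2_3, t3mc_t_2_6, t3mc_t_2_9, t3mc_t_2_14, t3mc_t_3_6, t3mc_t_3_9, t3mc_t_3_14, t3mc_t_6_9, t3mc_t_6_14, t3mc_m_2, t3mc_m_3, t3mc_m_6, t3mc_m_9, t3mc_m_14] <;>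
    repeat (first
      | with_reducible rfl
      | refine t3mc_cs (by first | rfl | ring1 | (field_simp; ring1) | (field_simp; first | done | fail)) ?_
      | refine t3mc_skL (by first | rfl | ring1 | (field_simp; ring1) | (field_simp; first | done | fail)) ?_
      | refine t3mc_skR (by first | rfl | ring1 | (field_simp; ring1) | (field_simp; first | done | fail)) ?_)
  exact (mul_one _).symm.trans (key.trans (mul_one _))

end Cfsg.Agent.Lib.helper8.T3M
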