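import Mathlib
import Cfsg.Agent.Lib.helper8.T3MColl
import Cfsg.Agent.Lib.helper8.T3M.Defs

/-!
# Project T3M (matrix side of S2110; designer helper8): generic identities, family `ws_l2` (machine generated)

Identities in `D₄(K)` between the orbit products `XS3 k a b c` (three INDEPENDENT parameters) and the long root elements `XL3 k c`;
the parameters of the result are variables `p_i` with hypotheses `p_i = …`.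
Specialised at `(a, b, c) = (t, f t, f (f t))` they give the relations of helper17's `SysT` for `³D₄(q)` (files `R_*`).
-/

set_option autoImplicit false
set_option linter.unusedSimpArgs false
set_option linter.unnecessarySeqFocus false
set_option linter.unreachableTactic false
set_option linter.unusedTactic false
set_option linter.unusedVariables false
set_option maxRecDepth 4000

namespace Cfsg.Agent.Lib.helper8.T3M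

open Cfsg.Lie Cfsg.Lie.ChevalleyDatum Matrix
open Cfsg.Agent.Lib.helper8
open Cfsg.Agent.Lib.helper23.TD4V

universe u

variable {K : Type u} [Field K]

attribute [local irreducible] X

set_option maxHeartbeats 1600000 in
theorem t3mg_ws_l2_0 (t0 t1 t2 d : K) {p1 p2 p3 p4 : K} (ht0 : t0 ≠ 0) (ht1 : t1 ≠ 0) (ht2 : t2 ≠ 0) (hp1 : p1 = t0⁻¹) (hp2 : p2 = t1⁻¹) (hp3 : p3 = t2⁻¹) (hp4 : p4 = (((t0 * t1) * t2) * d)) :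
    (XS3 0 t0 t1 t2 * XS3 3 p1 p2 p3 * XS3 0 t0 t1 t2 * XL3 2 d : GG K) =
      XL3 0 p4 * (XS3 0 t0 t1 t2 * XS3 3 p1 p2 p3 * XS3 0 t0 t1 t2) := by
  have key : (XS3 0 t0 t1 t2 * XS3 3 p1 p2 p3 * XS3 0 t0 t1 t2 * XL3 2 d : GG K) * 1 = (XL3 0 p4 * (XS3 0 t0 t1 t2 * XS3 3 p1 p2 p3 * XS3 0 t0 t1 t2)) * 1 := by
    subst hp1 hp2 hp3 hp4
    simp only [XS3_0, XS3_3, XL3_0, XL3_2, mul_assoc, t3mc_t_14_5, t3mc_t_14_10, t3mc_t_14_11, t3mc_t_14_12, t3mc_t_14_13, t3mc_t_14_15, t3mc_t_14_16, t3mc_t_14_17, t3mc_t_14_18, t3mc_t_14_19, t3mc_t_14_20, t3mc_t_14_21, t3mc_t_14_22, t3mc_t_14_23, t3mc_t_15_5, t3mc_t_15_10, t3mc_t_15_11, t3mc_t_15_12, t3mc_t_15_13, t3mc_t_15_16, t3mc_t_15_17, t3mc_t_15_18, t3mc_t_15_19, t3mc_t_15_20, t3mc_t_15_21, t3mc_t_15_22, t3mc_t_15_23, t3mc_t_16_5, t3mc_t_16_10, t3mc_t_16_11,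 t3mc_t_16_12, t3mc_t_16_13, t3mc_t_16_17, t3mc_t_16_18, t3mc_t_16_19, t3mc_t_16_20, t3mc_t_16_21, t3mc_t_16_22, t3mc_t_16_23, t3mc_t_17_5, t3mc_t_17_10, t3mc_t_17_11, t3mc_t_17_12, t3mc_t_17_13, t3mc_t_17_18, t3mc_t_17_19, t3mc_t_17_20, t3mc_t_17_21, t3mc_t_17_22, t3mc_t_17_23, t3mc_t_19_5, t3mc_t_19_10, t3mc_t_19_11, t3mc_t_19_12, t3mc_t_19_13, t3mc_t_19_18, t3mc_t_19_20, t3mc_t_19_21, t3mc_t_19_22, t3mc_t_19_23, t3mc_t_20_5, t3mc_t_20_10, t3mc_t_20_11, t3mc_t_20_12, t3mc_t_20_13, t3mc_t_20_18, t3mc_t_20_21, t3mc_t_20_22, t3mc_t_20_23, t3mc_t_21_5, t3mc_t_21_10, t3mc_t_21_11, t3mc_t_21_12, t3mc_t_21_13, t3mc_t_21_18, t3mc_t_21_22, t3mc_t_21_23, t3mc_t_22_5, t3mc_t_22_10, t3mc_t_22_11, t3mc_t_22_12, t3mc_t_22_13, t3mc_t_22_18, t3mc_t_22_23, t3mc_t_23_5, t3mc_t_23_10, t3mc_t_23_11, t3mc_t_23_12,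 t3mc_t_23_13, t3mc_t_23_18, t3mc_m_5, t3mc_m_10, t3mc_m_11, t3mc_m_12, t3mc_m_13, t3mc_m_14, t3mc_m_15, t3mc_m_16, t3mc_m_17, t3mc_m_18, t3mc_m_19, t3mc_m_20, t3mc_m_21, t3mc_m_22, t3mc_m_23] <;>
    repeat (first
      | with_reducible rfl
      | refine t3mc_cs (by first | rfl | ring1 | (field_simp; ring1) | (field_simp; first | done | fail)) ?_
      | refine t3mc_skL (by first | rfl | ring1 | (field_simp; ring1) | (field_simp; first | done | fail)) ?_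
      | refine t3mc_skR (by first | rfl | ring1 | (field_simp; ring1) | (field_simp; first | done | fail)) ?_)
  exact (mul_one _).symm.trans (key.trans (mul_one _))

set_option maxHeartbeats 1600000 in
theorem t3mg_ws_l2_1 (t0 t1 t2 d : K) {p1 p2 p3 p4 : K} (ht0 : t0 ≠ 0) (ht1 : t1 ≠ 0) (ht2 : t2 ≠ 0) (hp1 : p1 = t0⁻¹) (hp2 : p2 = t1⁻¹) (hp3 : p3 = t2⁻¹) (hp4 : p4 = (((t0 * t1) * t2) * d)) :
    (XS3 1 t0 t1 t2 * XS3 4 p1 p2 p3 * XS3 1 t0 t1 t2 * XL3 3 d : GG K) =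
      XL3 1 p4 * (XS3 1 t0 t1 t2 * XS3 4 p1 p2 p3 * XS3 1 t0 t1 t2) := by
  have key : (XS3 1 t0 t1 t2 * XS3 4 p1 p2 p3 * XS3 1 t0 t1 t2 * XL3 3 d : GG K) * 1 = (XL3 1 p4 * (XS3 1 t0 t1 t2 * XS3 4 p1 p2 p3 * XS3 1 t0 t1 t2)) * 1 := by
    subst hp1 hp2 hp3 hp4
    simp only [XS3_1, XS3_4, XL3_1, XL3_3, mul_assoc, t3mc_t_1_2, t3mc_t_1_3, t3mc_t_1_5, t3mc_t_1_6, t3mc_t_1_10, t3mc_t_1_11, t3mc_t_1_14, t3mc_t_1_15, t3mc_t_1_16, t3mc_t_1_17, t3mc_t_1_19, t3mc_t_1_20, t3mc_t_1_21, t3mc_t_1_23, t3mc_t_5_2, t3mc_t_5_3, t3mc_t_5_6, t3mc_t_5_10, t3mc_t_5_11, t3mc_t_5_14, t3mc_t_5_15, t3mc_t_5_16, t3mc_t_5_17, t3mc_t_5_19, t3mc_t_5_20, t3mc_t_5_21, t3mc_t_5_23, t3mc_t_10_2, t3mc_t_10_3, t3mc_t_10_6, t3mc_t_10_11, t3mc_t_10_14, t3mc_t_10_15, t3mc_t_10_16, t3mc_t_10_17, t3mc_t_10_19, t3mc_t_10_20, t3mc_t_10_21,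 t3mc_t_10_23, t3mc_t_11_2, t3mc_t_11_3, t3mc_t_11_6, t3mc_t_11_14, t3mc_t_11_15, t3mc_t_11_16, t3mc_t_11_17, t3mc_t_11_19, t3mc_t_11_20, t3mc_t_11_21, t3mc_t_11_23, t3mc_t_14_2, t3mc_t_14_3, t3mc_t_14_6, t3mc_t_14_15, t3mc_t_14_16, t3mc_t_14_17, t3mc_t_14_19, t3mc_t_14_20, t3mc_t_14_21, t3mc_t_14_23, t3mc_t_15_2, t3mc_t_15_3, t3mc_t_15_6, t3mc_t_15_16, t3mc_t_15_17, t3mc_t_15_19, t3mc_t_15_20, t3mc_t_15_21, t3mc_t_15_23, t3mc_t_16_2, t3mc_t_16_3, t3mc_t_16_6, t3mc_t_16_17, t3mc_t_16_19, t3mc_t_16_20, t3mc_t_16_21, t3mc_t_16_23, t3mc_t_19_2, t3mc_t_19_3, t3mc_t_19_6, t3mc_t_19_17, t3mc_t_19_20, t3mc_t_19_21, t3mc_t_19_23, t3mc_t_23_2, t3mc_t_23_3, t3mc_t_23_6, t3mc_t_23_17, t3mc_t_23_20, t3mc_t_23_21, t3mc_m_1, t3mc_m_2, t3mc_m_3, t3mc_m_5, t3mc_m_6, t3mc_m_10, t3mc_m_11, t3mc_m_14, t3mc_m_15,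 t3mc_m_16, t3mc_m_17, t3mc_m_19, t3mc_m_20, t3mc_m_21, t3mc_m_23] <;>
    repeat (first
      | with_reducible rfl
      | refine t3mc_cs (by first | rfl | ring1 | (field_simp; ring1) | (field_simp; first | done | fail)) ?_
      | refine t3mc_skL (by first | rfl | ring1 | (field_simp; ring1) | (field_simp; first | done | fail)) ?_
      | refine t3mc_skR (by first | rfl | ring1 | (field_simp; ring1) | (field_simp; first | done | fail)) ?_)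
  exact (mul_one _).symm.trans (key.trans (mul_one _))

set_option maxHeartbeats 1600000 in
theorem t3mg_ws_l2_2 (t0 t1 t2 d : K) {p1 p2 p3 p4 : K} (ht0 : t0 ≠ 0) (ht1 : t1 ≠ 0) (ht2 : t2 ≠ 0) (hp1 : p1 = t0⁻¹) (hp2 : p2 = t1⁻¹) (hp3 : p3 = t2⁻¹) (hp4 : p4 = (((t0 * t1) * t2) * d)) :
    (XS3 2 t0 t1 t2 * XS3 5 p1 p2 p3 * XS3 2 t0 t1 t2 * XL3 4 d : GG K) =
      XL3 2 p4 * (XS3 2 t0 t1 t2 * XS3 5 p1 p2 p3 * XS3 2 t0 t1 t2) := by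
  have key : (XS3 2 t0 t1 t2 * XS3 5 p1 p2 p3 * XS3 2 t0 t1 t2 * XL3 4 d : GG K) * 1 = (XL3 2 p4 * (XS3 2 t0 t1 t2 * XS3 5 p1 p2 p3 * XS3 2 t0 t1 t2)) * 1 := by
    subst hp1 hp2 hp3 hp4
    simp only [XS3_2, XS3_5, XL3_2, XL3_4, mul_assoc, t3mc_t_0_1, t3mc_t_0_2, t3mc_t_0_3, t3mc_t_0_4, t3mc_t_0_5, t3mc_t_0_6, t3mc_t_0_7, t3mc_t_0_8, t3mc_t_0_10, t3mc_t_0_11, t3mc_t_0_14, t3mc_t_0_15, t3mc_t_0_16, t3mc_t_0_19, t3mc_t_1_2, t3mc_t_1_3, t3mc_t_1_4, t3mc_t_1_5, t3mc_t_1_6, t3mc_t_1_7, t3mc_t_1_8, t3mc_t_1_10, t3mc_t_1_11, t3mc_t_1_14, t3mc_t_1_15, t3mc_t_1_16, t3mc_t_1_19, t3mc_t_2_3, t3mc_t_2_4, t3mc_t_2_5, t3mc_t_2_6, t3mc_t_2_7, t3mc_t_2_8, t3mc_t_2_10, t3mc_t_2_11, t3mc_t_2_14, t3mc_t_2_15, t3mc_t_2_16, t3mc_t_2_19, t3mc_t_3_4, t3mc_t_3_5, t3mc_t_3_6, t3mc_t_3_7, t3mc_t_3_8, t3mc_t_3_10,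 t3mc_t_3_11, t3mc_t_3_14, t3mc_t_3_15, t3mc_t_3_16, t3mc_t_3_19, t3mc_t_5_4, t3mc_t_5_6, t3mc_t_5_7, t3mc_t_5_8, t3mc_t_5_10, t3mc_t_5_11, t3mc_t_5_14, t3mc_t_5_15, t3mc_t_5_16, t3mc_t_5_19, t3mc_t_6_4, t3mc_t_6_7, t3mc_t_6_8, t3mc_t_6_10, t3mc_t_6_11, t3mc_t_6_14, t3mc_t_6_15, t3mc_t_6_16, t3mc_t_6_19, t3mc_t_10_4, t3mc_t_10_7, t3mc_t_10_8, t3mc_t_10_11, t3mc_t_10_14, t3mc_t_10_15, t3mc_t_10_16, t3mc_t_10_19, t3mc_t_11_4, t3mc_t_11_7, t3mc_t_11_8, t3mc_t_11_14, t3mc_t_11_15, t3mc_t_11_16, t3mc_t_11_19, t3mc_t_14_4, t3mc_t_14_7, t3mc_t_14_8, t3mc_t_14_15, t3mc_t_14_16, t3mc_t_14_19, t3mc_m_0, t3mc_m_1, t3mc_m_2, t3mc_m_3, t3mc_m_4, t3mc_m_5, t3mc_m_6, t3mc_m_7, t3mc_m_8, t3mc_m_10, t3mc_m_11, t3mc_m_14, t3mc_m_15, t3mc_m_16, t3mc_m_19] <;>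
    repeat (first
      | with_reducible rfl
      | refine t3mc_cs (by first | rfl | ring1 | (field_simp; ring1) | (field_simp; first | done | fail)) ?_
      | refine t3mc_skL (by first | rfl | ring1 | (field_simp; ring1) | (field_simp; first | done | fail)) ?_
      | refine t3mc_skR (by first | rfl | ring1 | (field_simp; ring1) | (field_simp; first | done | fail)) ?_)
  exact (mul_one _).symm.trans (key.trans (mul_one _))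

set_option maxHeartbeats 1600000 in
theorem t3mg_ws_l2_3 (t0 t1 t2 d : K) {p1 p2 p3 p4 : K} (ht0 : t0 ≠ 0) (ht1 : t1 ≠ 0) (ht2 : t2 ≠ 0) (hp1 : p1 = t0⁻¹) (hp2 : p2 = t1⁻¹) (hp3 : p3 = t2⁻¹) (hp4 : p4 = (((t0 * t1) * t2) * d)) :
    (XS3 3 t0 t1 t2 * XS3 0 p1 p2 p3 * XS3 3 t0 t1 t2 * XL3 5 d : GG K) =
      XL3 3 p4 * (XS3 3 t0 t1 t2 * XS3 0 p1 p2 p3 * XS3 3 t0 t1 t2) := by
  have key : (XS3 3 t0 t1 t2 * XS3 0 p1 p2 p3 * XS3 3 t0 t1 t2 * XL3 5 d : GG K) * 1 = (XL3 3 p4 * (XS3 3 t0 t1 t2 * XS3 0 p1 p2 p3 * XS3 3 t0 t1 t2)) * 1 := by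
    subst hp1 hp2 hp3 hp4
    simp only [XS3_0, XS3_3, XL3_3, XL3_5, mul_assoc, t3mc_t_0_1, t3mc_t_0_2, t3mc_t_0_3, t3mc_t_0_4, t3mc_t_0_5, t3mc_t_0_6, t3mc_t_0_7, t3mc_t_0_8, t3mc_t_0_9, t3mc_t_0_10, t3mc_t_0_11, t3mc_t_0_12, t3mc_t_0_13, t3mc_t_0_18, t3mc_t_1_2, t3mc_t_1_3, t3mc_t_1_4, t3mc_t_1_5, t3mc_t_1_6, t3mc_t_1_7, t3mc_t_1_8, t3mc_t_1_9, t3mc_t_1_10, t3mc_t_1_11, t3mc_t_1_12, t3mc_t_1_13, t3mc_t_1_18, t3mc_t_2_3, t3mc_t_2_4, t3mc_t_2_5, t3mc_t_2_6, t3mc_t_2_7, t3mc_t_2_8, t3mc_t_2_9, t3mc_t_2_10, t3mc_t_2_11, t3mc_t_2_12, t3mc_t_2_13, t3mc_t_2_18, t3mc_t_3_4, t3mc_t_3_5, t3mc_t_3_6, t3mc_t_3_7, t3mc_t_3_8, t3mc_t_3_9, t3mc_t_3_10, t3mc_t_3_11, t3mc_t_3_12, t3mc_t_3_13, t3mc_t_3_18, t3mc_t_4_5, t3mc_t_4_6, t3mc_t_4_7, t3mc_t_4_8, t3mc_t_4_9, t3mc_t_4_10, t3mc_t_4_11, t3mc_t_4_12,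 t3mc_t_4_13, t3mc_t_4_18, t3mc_t_6_5, t3mc_t_6_7, t3mc_t_6_8, t3mc_t_6_9, t3mc_t_6_10, t3mc_t_6_11, t3mc_t_6_12, t3mc_t_6_13, t3mc_t_6_18, t3mc_t_7_5, t3mc_t_7_8, t3mc_t_7_9, t3mc_t_7_10, t3mc_t_7_11, t3mc_t_7_12, t3mc_t_7_13, t3mc_t_7_18, t3mc_t_8_5, t3mc_t_8_9, t3mc_t_8_10, t3mc_t_8_11, t3mc_t_8_12, t3mc_t_8_13, t3mc_t_8_18, t3mc_t_9_5, t3mc_t_9_10, t3mc_t_9_11, t3mc_t_9_12, t3mc_t_9_13, t3mc_t_9_18, t3mc_m_0, t3mc_m_1, t3mc_m_2, t3mc_m_3, t3mc_m_4, t3mc_m_5, t3mc_m_6, t3mc_m_7, t3mc_m_8, t3mc_m_9, t3mc_m_10, t3mc_m_11, t3mc_m_12, t3mc_m_13, t3mc_m_18] <;>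
    repeat (first
      | with_reducible rfl
      | refine t3mc_cs (by first | rfl | ring1 | (field_simp; ring1) | (field_simp; first | done | fail)) ?_
      | refine t3mc_skL (by first | rfl | ring1 | (field_simp; ring1) | (field_simp; first | done | fail)) ?_
      | refine t3mc_skR (by first | rfl | ring1 | (field_simp; ring1) | (field_simp; first | done | fail)) ?_)
  exact (mul_one _).symm.trans (key.trans (mul_one _))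

set_option maxHeartbeats 1600000 in
theorem t3mg_ws_l2_4 (t0 t1 t2 d : K) {p1 p2 p3 p4 : K} (ht0 : t0 ≠ 0) (ht1 : t1 ≠ 0) (ht2 : t2 ≠ 0) (hp1 : p1 = t0⁻¹) (hp2 : p2 = t1⁻¹) (hp3 : p3 = t2⁻¹) (hp4 : p4 = (((t0 * t1) * t2) * d)) :
    (XS3 4 t0 t1 t2 * XS3 1 p1 p2 p3 * XS3 4 t0 t1 t2 * XL3 0 d : GG K) =
      XL3 4 p4 * (XS3 4 t0 t1 t2 * XS3 1 p1 p2 p3 * XS3 4 t0 t1 t2) := by
  have key : (XS3 4 t0 t1 t2 * XS3 1 p1 p2 p3 * XS3 4 t0 t1 t2 * XL3 0 d : GG K) * 1 = (XL3 4 p4 * (XS3 4 t0 t1 t2 * XS3 1 p1 p2 p3 * XS3 4 t0 t1 t2)) * 1 := by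
    subst hp1 hp2 hp3 hp4
    simp only [XS3_1, XS3_4, XL3_0, XL3_4, mul_assoc, t3mc_t_0_2, t3mc_t_0_3, t3mc_t_0_4, t3mc_t_0_6, t3mc_t_0_7, t3mc_t_0_8, t3mc_t_0_9, t3mc_t_0_12, t3mc_t_0_13, t3mc_t_0_17, t3mc_t_0_18, t3mc_t_0_20, t3mc_t_0_21, t3mc_t_0_22, t3mc_t_4_2, t3mc_t_4_3, t3mc_t_4_6, t3mc_t_4_7, t3mc_t_4_8, t3mc_t_4_9, t3mc_t_4_12, t3mc_t_4_13, t3mc_t_4_17, t3mc_t_4_18, t3mc_t_4_20, t3mc_t_4_21, t3mc_t_4_22, t3mc_t_7_2, t3mc_t_7_3, t3mc_t_7_6, t3mc_t_7_8, t3mc_t_7_9, t3mc_t_7_12, t3mc_t_7_13, t3mc_t_7_17, t3mc_t_7_18, t3mc_t_7_20, t3mc_t_7_21, t3mc_t_7_22, t3mc_t_8_2, t3mc_t_8_3, t3mc_t_8_6, t3mc_t_8_9, t3mc_t_8_12, t3mc_t_8_13, t3mc_t_8_17, t3mc_t_8_18, t3mc_t_8_20, t3mc_t_8_21, t3mc_t_8_22, t3mc_t_9_2, t3mc_t_9_3, t3mc_t_9_6, t3mc_t_9_12, t3mc_t_9_13, t3mc_t_9_17, t3mc_t_9_18, t3mc_t_9_20,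 t3mc_t_9_21, t3mc_t_9_22, t3mc_t_12_2, t3mc_t_12_3, t3mc_t_12_6, t3mc_t_12_13, t3mc_t_12_17, t3mc_t_12_18, t3mc_t_12_20, t3mc_t_12_21, t3mc_t_12_22, t3mc_t_13_2, t3mc_t_13_3, t3mc_t_13_6, t3mc_t_13_17, t3mc_t_13_18, t3mc_t_13_20, t3mc_t_13_21, t3mc_t_13_22, t3mc_t_18_2, t3mc_t_18_3, t3mc_t_18_6, t3mc_t_18_17, t3mc_t_18_20, t3mc_t_18_21, t3mc_t_18_22, t3mc_t_22_2, t3mc_t_22_3, t3mc_t_22_6, t3mc_t_22_17, t3mc_t_22_20, t3mc_t_22_21, t3mc_m_0, t3mc_m_2, t3mc_m_3, t3mc_m_4, t3mc_m_6, t3mc_m_7, t3mc_m_8, t3mc_m_9, t3mc_m_12, t3mc_m_13, t3mc_m_17, t3mc_m_18, t3mc_m_20, t3mc_m_21, t3mc_m_22] <;>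
    repeat (first
      | with_reducible rfl
      | refine t3mc_cs (by first | rfl | ring1 | (field_simp; ring1) | (field_simp; first | done | fail)) ?_
      | refine t3mc_skL (by first | rfl | ring1 | (field_simp; ring1) | (field_simp; first | done | fail)) ?_
      | refine t3mc_skR (by first | rfl | ring1 | (field_simp; ring1) | (field_simp; first | done | fail)) ?_)
  exact (mul_one _).symm.trans (key.trans (mul_one _))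

set_option maxHeartbeats 1600000 in
theorem t3mg_ws_l2_5 (t0 t1 t2 d : K) {p1 p2 p3 p4 : K} (ht0 : t0 ≠ 0) (ht1 : t1 ≠ 0) (ht2 : t2 ≠ 0) (hp1 : p1 = t0⁻¹) (hp2 : p2 = t1⁻¹) (hp3 : p3 = t2⁻¹) (hp4 : p4 = (((t0 * t1) * t2) * d)) :
    (XS3 5 t0 t1 t2 * XS3 2 p1 p2 p3 * XS3 5 t0 t1 t2 * XL3 1 d : GG K) =
      XL3 5 p4 * (XS3 5 t0 t1 t2 * XS3 2 p1 p2 p3 * XS3 5 t0 t1 t2) := by
  have key : (XS3 5 t0 t1 t2 * XS3 2 p1 p2 p3 * XS3 5 t0 t1 t2 * XL3 1 d : GG K) * 1 = (XL3 5 p4 * (XS3 5 t0 t1 t2 * XS3 2 p1 p2 p3 * XS3 5 t0 t1 t2)) * 1 := by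
    subst hp1 hp2 hp3 hp4
    simp only [XS3_2, XS3_5, XL3_1, XL3_5, mul_assoc, t3mc_t_9_4, t3mc_t_9_7, t3mc_t_9_8, t3mc_t_9_12, t3mc_t_9_13, t3mc_t_9_15, t3mc_t_9_16, t3mc_t_9_17, t3mc_t_9_18, t3mc_t_9_19, t3mc_t_9_20, t3mc_t_9_21, t3mc_t_9_22, t3mc_t_9_23, t3mc_t_12_4, t3mc_t_12_7, t3mc_t_12_8, t3mc_t_12_13, t3mc_t_12_15, t3mc_t_12_16, t3mc_t_12_17, t3mc_t_12_18, t3mc_t_12_19, t3mc_t_12_20, t3mc_t_12_21, t3mc_t_12_22, t3mc_t_12_23, t3mc_t_13_4, t3mc_t_13_7, t3mc_t_13_8, t3mc_t_13_15, t3mc_t_13_16, t3mc_t_13_17, t3mc_t_13_18, t3mc_t_13_19, t3mc_t_13_20, t3mc_t_13_21, t3mc_t_13_22, t3mc_t_13_23, t3mc_t_17_4, t3mc_t_17_7, t3mc_t_17_8, t3mc_t_17_15, t3mc_t_17_16, t3mc_t_17_18, t3mc_t_17_19, t3mc_t_17_20, t3mc_t_17_21, t3mc_t_17_22, t3mc_t_17_23, t3mc_t_18_4, t3mc_t_18_7, t3mc_t_18_8, t3mc_t_18_15,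 t3mc_t_18_16, t3mc_t_18_19, t3mc_t_18_20, t3mc_t_18_21, t3mc_t_18_22, t3mc_t_18_23, t3mc_t_20_4, t3mc_t_20_7, t3mc_t_20_8, t3mc_t_20_15, t3mc_t_20_16, t3mc_t_20_19, t3mc_t_20_21, t3mc_t_20_22, t3mc_t_20_23, t3mc_t_21_4, t3mc_t_21_7, t3mc_t_21_8, t3mc_t_21_15, t3mc_t_21_16, t3mc_t_21_19, t3mc_t_21_22, t3mc_t_21_23, t3mc_t_22_4, t3mc_t_22_7, t3mc_t_22_8, t3mc_t_22_15, t3mc_t_22_16, t3mc_t_22_19, t3mc_t_22_23, t3mc_t_23_4, t3mc_t_23_7, t3mc_t_23_8, t3mc_t_23_15, t3mc_t_23_16, t3mc_t_23_19, t3mc_m_4, t3mc_m_7, t3mc_m_8, t3mc_m_9, t3mc_m_12, t3mc_m_13, t3mc_m_15, t3mc_m_16, t3mc_m_17, t3mc_m_18, t3mc_m_19, t3mc_m_20, t3mc_m_21, t3mc_m_22, t3mc_m_23] <;>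
    repeat (first
      | with_reducible rfl
      | refine t3mc_cs (by first | rfl | ring1 | (field_simp; ring1) | (field_simp; first | done | fail)) ?_
      | refine t3mc_skL (by first | rfl | ring1 | (field_simp; ring1) | (field_simp; first | done | fail)) ?_
      | refine t3mc_skR (by first | rfl | ring1 | (field_simp; ring1) | (field_simp; first | done | fail)) ?_)
  exact (mul_one _).symm.trans (key.trans (mul_one _))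

end Cfsg.Agent.Lib.helper8.T3M
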