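import Mathlib
import Cfsg.Agent.Lib.helper8.T3MColl
import Cfsg.Agent.Lib.helper8.T3M.Defs

/-!
# Project T3M (matrix side of S2110; designer helper8): generic identities, family `ws_l4` (machine generated)

Identities in `D₄(K)` between the orbit products `XS3 k a b c` (three INDEPENDENT parameters) and the long root elements `XL3 k c`;
the parameters of the result are variables `p_i` with hypotheses `p_i = …`.
Specialised at `(a, b, c) = (t, f t, f (f t))` they give the relations of helper17's `SysT` for `³D₄(q)` (files `R_*`).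
-/

set_option autoImplicit false
set_option linter.unusedSimpArgs false
set_option linter.unnecessarySeqFocus false
set_option linter.unreachableTactic false
set_option linter.unusedTactic false
set_option linter.unusedVariables false
set_option maxRecDepth 4000

namespace Cfsg.Agent.Lib.helper8.T3M

open Cfsg.Lie Cfsg.Lie.ChevalleyDatum Matrix
open Cfsg.Agent.Lib.helper8
open Cfsg.Agent.Lib.helper23.TD4V

universe u

variable {K : Type u} [Field K]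

attribute [local irreducible] X

set_option maxHeartbeats 1600000 in
theorem t3mg_ws_l4_0 (t0 t1 t2 d : K) {p1 p2 p3 : K} (ht0 : t0 ≠ 0) (ht1 : t1 ≠ 0) (ht2 : t2 ≠ 0) (hp1 : p1 = t0⁻¹) (hp2 : p2 = t1⁻¹) (hp3 : p3 = t2⁻¹) :
    (XS3 0 t0 t1 t2 * XS3 3 p1 p2 p3 * XS3 0 t0 t1 t2 * XL3 4 d : GG K) =
      XL3 4 d * (XS3 0 t0 t1 t2 * XS3 3 p1 p2 p3 * XS3 0 t0 t1 t2) := by
  have key : (XS3 0 t0 t1 t2 * XS3 3 p1 p2 p3 * XS3 0 t0 t1 t2 * XL3 4 d : GG K) * 1 = (XL3 4 d * (XS3 0 t0 t1 t2 * XS3 3 p1 p2 p3 * XS3 0 t0 t1 t2)) * 1 := by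
    subst hp1 hp2 hp3
    simp only [XS3_0, XS3_3, XL3_4, mul_assoc, t3mc_t_0_5, t3mc_t_0_10, t3mc_t_0_11, t3mc_t_0_12, t3mc_t_0_13, t3mc_t_0_18, t3mc_m_0, t3mc_m_5, t3mc_m_10, t3mc_m_11, t3mc_m_12, t3mc_m_13, t3mc_m_18] <;>
    repeat (first
      | with_reducible rfl
      | refine t3mc_cs (by first | rfl | ring1 | (field_simp; ring1) | (field_simp; first | done | fail)) ?_
      | refine t3mc_skL (by first | rfl | ring1 | (field_simp; ring1) | (field_simp; first | done | fail)) ?_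
      | refine t3mc_skR (by first | rfl | ring1 | (field_simp; ring1) | (field_simp; first | done | fail)) ?_)
  exact (mul_one _).symm.trans (key.trans (mul_one _))

set_option maxHeartbeats 1600000 in
theorem t3mg_ws_l4_1 (t0 t1 t2 d : K) {p1 p2 p3 : K} (ht0 : t0 ≠ 0) (ht1 : t1 ≠ 0) (ht2 : t2 ≠ 0) (hp1 : p1 = t0⁻¹) (hp2 : p2 = t1⁻¹) (hp3 : p3 = t2⁻¹) :
    (XS3 1 t0 t1 t2 * XS3 4 p1 p2 p3 * XS3 1 t0 t1 t2 * XL3 5 d : GG K) =
      XL3 5 d * (XS3 1 t0 t1 t2 * XS3 4 p1 p2 p3 * XS3 1 t0 t1 t2) := by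
  have key : (XS3 1 t0 t1 t2 * XS3 4 p1 p2 p3 * XS3 1 t0 t1 t2 * XL3 5 d : GG K) * 1 = (XL3 5 d * (XS3 1 t0 t1 t2 * XS3 4 p1 p2 p3 * XS3 1 t0 t1 t2)) * 1 := by
    subst hp1 hp2 hp3
    simp only [XS3_1, XS3_4, XL3_5, mul_assoc, t3mc_t_9_2, t3mc_t_9_3, t3mc_t_9_6, t3mc_t_9_17, t3mc_t_9_20, t3mc_t_9_21, t3mc_m_2, t3mc_m_3, t3mc_m_6, t3mc_m_9, t3mc_m_17, t3mc_m_20, t3mc_m_21] <;>
    repeat (first
      | with_reducible rfl
      | refine t3mc_cs (by first | rfl | ring1 | (field_simp; ring1) | (field_simp; first | done | fail)) ?_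
      | refine t3mc_skL (by first | rfl | ring1 | (field_simp; ring1) | (field_simp; first | done | fail)) ?_
      | refine t3mc_skR (by first | rfl | ring1 | (field_simp; ring1) | (field_simp; first | done | fail)) ?_)
  exact (mul_one _).symm.trans (key.trans (mul_one _))

set_option maxHeartbeats 1600000 in
theorem t3mg_ws_l4_2 (t0 t1 t2 d : K) {p1 p2 p3 : K} (ht0 : t0 ≠ 0) (ht1 : t1 ≠ 0) (ht2 : t2 ≠ 0) (hp1 : p1 = t0⁻¹) (hp2 : p2 = t1⁻¹) (hp3 : p3 = t2⁻¹) :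
    (XS3 2 t0 t1 t2 * XS3 5 p1 p2 p3 * XS3 2 t0 t1 t2 * XL3 0 d : GG K) =
      XL3 0 d * (XS3 2 t0 t1 t2 * XS3 5 p1 p2 p3 * XS3 2 t0 t1 t2) := by
  have key : (XS3 2 t0 t1 t2 * XS3 5 p1 p2 p3 * XS3 2 t0 t1 t2 * XL3 0 d : GG K) * 1 = (XL3 0 d * (XS3 2 t0 t1 t2 * XS3 5 p1 p2 p3 * XS3 2 t0 t1 t2)) * 1 := by
    subst hp1 hp2 hp3
    simp only [XS3_2, XS3_5, XL3_0, mul_assoc, t3mc_t_22_4, t3mc_t_22_7, t3mc_t_22_8, t3mc_t_22_15, t3mc_t_22_16, t3mc_t_22_19, t3mc_m_4, t3mc_m_7, t3mc_m_8, t3mc_m_15, t3mc_m_16, t3mc_m_19, t3mc_m_22] <;>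
    repeat (first
      | with_reducible rfl
      | refine t3mc_cs (by first | rfl | ring1 | (field_simp; ring1) | (field_simp; first | done | fail)) ?_
      | refine t3mc_skL (by first | rfl | ring1 | (field_simp; ring1) | (field_simp; first | done | fail)) ?_
      | refine t3mc_skR (by first | rfl | ring1 | (field_simp; ring1) | (field_simp; first | done | fail)) ?_)
  exact (mul_one _).symm.trans (key.trans (mul_one _))

set_option maxHeartbeats 1600000 in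
theorem t3mg_ws_l4_3 (t0 t1 t2 d : K) {p1 p2 p3 : K} (ht0 : t0 ≠ 0) (ht1 : t1 ≠ 0) (ht2 : t2 ≠ 0) (hp1 : p1 = t0⁻¹) (hp2 : p2 = t1⁻¹) (hp3 : p3 = t2⁻¹) :
    (XS3 3 t0 t1 t2 * XS3 0 p1 p2 p3 * XS3 3 t0 t1 t2 * XL3 1 d : GG K) =
      XL3 1 d * (XS3 3 t0 t1 t2 * XS3 0 p1 p2 p3 * XS3 3 t0 t1 t2) := by
  have key : (XS3 3 t0 t1 t2 * XS3 0 p1 p2 p3 * XS3 3 t0 t1 t2 * XL3 1 d : GG K) * 1 = (XL3 1 d * (XS3 3 t0 t1 t2 * XS3 0 p1 p2 p3 * XS3 3 t0 t1 t2)) * 1 := by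
    subst hp1 hp2 hp3
    simp only [XS3_0, XS3_3, XL3_1, mul_assoc, t3mc_t_23_5, t3mc_t_23_10, t3mc_t_23_11, t3mc_t_23_12, t3mc_t_23_13, t3mc_t_23_18, t3mc_m_5, t3mc_m_10, t3mc_m_11, t3mc_m_12, t3mc_m_13, t3mc_m_18, t3mc_m_23] <;>
    repeat (first
      | with_reducible rfl
      | refine t3mc_cs (by first | rfl | ring1 | (field_simp; ring1) | (field_simp; first | done | fail)) ?_
      | refine t3mc_skL (by first | rfl | ring1 | (field_simp; ring1) | (field_simp; first | done | fail)) ?_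
      | refine t3mc_skR (by first | rfl | ring1 | (field_simp; ring1) | (field_simp; first | done | fail)) ?_)
  exact (mul_one _).symm.trans (key.trans (mul_one _))

set_option maxHeartbeats 1600000 in
theorem t3mg_ws_l4_4 (t0 t1 t2 d : K) {p1 p2 p3 : K} (ht0 : t0 ≠ 0) (ht1 : t1 ≠ 0) (ht2 : t2 ≠ 0) (hp1 : p1 = t0⁻¹) (hp2 : p2 = t1⁻¹) (hp3 : p3 = t2⁻¹) :
    (XS3 4 t0 t1 t2 * XS3 1 p1 p2 p3 * XS3 4 t0 t1 t2 * XL3 2 d : GG K) =
      XL3 2 d * (XS3 4 t0 t1 t2 * XS3 1 p1 p2 p3 * XS3 4 t0 t1 t2) := by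
  have key : (XS3 4 t0 t1 t2 * XS3 1 p1 p2 p3 * XS3 4 t0 t1 t2 * XL3 2 d : GG K) * 1 = (XL3 2 d * (XS3 4 t0 t1 t2 * XS3 1 p1 p2 p3 * XS3 4 t0 t1 t2)) * 1 := by
    subst hp1 hp2 hp3
    simp only [XS3_1, XS3_4, XL3_2, mul_assoc, t3mc_t_14_2, t3mc_t_14_3, t3mc_t_14_6, t3mc_t_14_17, t3mc_t_14_20, t3mc_t_14_21, t3mc_m_2, t3mc_m_3, t3mc_m_6, t3mc_m_14, t3mc_m_17, t3mc_m_20, t3mc_m_21] <;>
    repeat (first
      | with_reducible rfl
      | refine t3mc_cs (by first | rfl | ring1 | (field_simp; ring1) | (field_simp; first | done | fail)) ?_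
      | refine t3mc_skL (by first | rfl | ring1 | (field_simp; ring1) | (field_simp; first | done | fail)) ?_
      | refine t3mc_skR (by first | rfl | ring1 | (field_simp; ring1) | (field_simp; first | done | fail)) ?_)
  exact (mul_one _).symm.trans (key.trans (mul_one _))

set_option maxHeartbeats 1600000 in
theorem t3mg_ws_l4_5 (t0 t1 t2 d : K) {p1 p2 p3 : K} (ht0 : t0 ≠ 0) (ht1 : t1 ≠ 0) (ht2 : t2 ≠ 0) (hp1 : p1 = t0⁻¹) (hp2 : p2 = t1⁻¹) (hp3 : p3 = t2⁻¹) :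
    (XS3 5 t0 t1 t2 * XS3 2 p1 p2 p3 * XS3 5 t0 t1 t2 * XL3 3 d : GG K) =
      XL3 3 d * (XS3 5 t0 t1 t2 * XS3 2 p1 p2 p3 * XS3 5 t0 t1 t2) := by
  have key : (XS3 5 t0 t1 t2 * XS3 2 p1 p2 p3 * XS3 5 t0 t1 t2 * XL3 3 d : GG K) * 1 = (XL3 3 d * (XS3 5 t0 t1 t2 * XS3 2 p1 p2 p3 * XS3 5 t0 t1 t2)) * 1 := by
    subst hp1 hp2 hp3
    simp only [XS3_2, XS3_5, XL3_3, mul_assoc, t3mc_t_1_4, t3mc_t_1_7, t3mc_t_1_8, t3mc_t_1_15, t3mc_t_1_16, t3mc_t_1_19, t3mc_m_1, t3mc_m_4, t3mc_m_7, t3mc_m_8, t3mc_m_15, t3mc_m_16, t3mc_m_19] <;>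
    repeat (first
      | with_reducible rfl
      | refine t3mc_cs (by first | rfl | ring1 | (field_simp; ring1) | (field_simp; first | done | fail)) ?_
      | refine t3mc_skL (by first | rfl | ring1 | (field_simp; ring1) | (field_simp; first | done | fail)) ?_
      | refine t3mc_skR (by first | rfl | ring1 | (field_simp; ring1) | (field_simp; first | done | fail)) ?_)
  exact (mul_one _).symm.trans (key.trans (mul_one _))

end Cfsg.Agent.Lib.helper8.T3M
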