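import Mathlib
import Cfsg.Agent.Lib.helper8.T3MColl
import Cfsg.Agent.Lib.helper8.T3M.Defs
import Cfsg.Agent.Lib.helper8.T3M.Rk1

/-!
# Project T3M (matrix side of S2110; designer helper8): generic identities, family `ws_s0` (machine generated)

Identities in `D₄(K)` between the orbit products `XS3 k a b c` (three INDEPENDENT parameters) and the long root elements `XL3 k c`;
the parameters of the result are variables `p_i` with hypotheses `p_i = …`.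
Specialised at `(a, b, c) = (t, f t, f (f t))` they give the relations of helper17's `SysT` for `³D₄(q)` (files `R_*`).
-/

set_option autoImplicit false
set_option linter.unusedSimpArgs false
set_option linter.unnecessarySeqFocus false
set_option linter.unreachableTactic false
set_option linter.unusedTactic false
set_option linter.unusedVariables false
set_option maxRecDepth 4000

namespace Cfsg.Agent.Lib.helper8.T3M

open Cfsg.Lie Cfsg.Lie.ChevalleyDatum Matrix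
open Cfsg.Agent.Lib.helper8
open Cfsg.Agent.Lib.helper23.TD4V

universe u

variable {K : Type u} [Field K]


theorem t3mg_ws_s0_0 (t0 t1 t2 u0 u1 u2 : K) {p1 p2 p3 p4 p5 p6 : K} (ht0 : t0 ≠ 0) (ht1 : t1 ≠ 0) (ht2 : t2 ≠ 0) (hp1 : p1 = t0⁻¹) (hp2 : p2 = t1⁻¹) (hp3 : p3 = t2⁻¹) (hp4 : p4 = ((t0⁻¹ * t0⁻¹) * u0)) (hp5 : p5 = ((t1⁻¹ * t1⁻¹) * u1)) (hp6 : p6 = ((t2⁻¹ * t2⁻¹) * u2)) :
    (XS3 0 t0 t1 t2 * XS3 3 p1 p2 p3 * XS3 0 t0 t1 t2 * XS3 0 u0 u1 u2 : GG K) =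
      XS3 3 p4 p5 p6 * (XS3 0 t0 t1 t2 * XS3 3 p1 p2 p3 * XS3 0 t0 t1 t2) := by
  have key : (XS3 0 t0 t1 t2 * XS3 3 p1 p2 p3 * XS3 0 t0 t1 t2 * XS3 0 u0 u1 u2 : GG K) * 1 = (XS3 3 p4 p5 p6 * (XS3 0 t0 t1 t2 * XS3 3 p1 p2 p3 * XS3 0 t0 t1 t2)) * 1 := by
    subst hp1 hp2 hp3 hp4 hp5 hp6
    simp only [XS3_0, XS3_3, mul_assoc, t3mc_t_18_13, t3mc_t_18_10, t3mc_t_5_13, t3mc_t_5_10, t3mc_t_18_12, t3mc_t_18_11, t3mc_t_5_12, t3mc_t_5_11, t3mc_t_13_12, t3mc_t_13_11, t3mc_t_10_12, t3mc_t_10_11]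
    exact (t3m_rk1t 18 5 (by norm_num) (by first | rfl | ring1 | (field_simp; ring1) | (field_simp; first | done | fail)) (by first | rfl | ring1 | (field_simp; ring1) | (field_simp; first | done | fail)) (t3m_rk1t 13 10 (by norm_num) (by first | rfl | ring1 | (field_simp; ring1) | (field_simp; first | done | fail)) (by first | rfl | ring1 | (field_simp; ring1) | (field_simp; first | done | fail)) (t3m_rk1t 12 11 (by norm_num) (by first | rfl | ring1 | (field_simp; ring1) | (field_simp; first | done | fail)) (by first | rfl | ring1 | (field_simp; ring1) | (field_simp; first | done | fail)) rfl)))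
  exact (mul_one _).symm.trans (key.trans (mul_one _))

theorem t3mg_ws_s0_1 (t0 t1 t2 u0 u1 u2 : K) {p1 p2 p3 p4 p5 p6 : K} (ht0 : t0 ≠ 0) (ht1 : t1 ≠ 0) (ht2 : t2 ≠ 0) (hp1 : p1 = t0⁻¹) (hp2 : p2 = t1⁻¹) (hp3 : p3 = t2⁻¹) (hp4 : p4 = ((t0⁻¹ * t0⁻¹) * u0)) (hp5 : p5 = ((t1⁻¹ * t1⁻¹) * u1)) (hp6 : p6 = ((t2⁻¹ * t2⁻¹) * u2)) :
    (XS3 1 t0 t1 t2 * XS3 4 p1 p2 p3 * XS3 1 t0 t1 t2 * XS3 1 u0 u1 u2 : GG K) =
      XS3 4 p4 p5 p6 * (XS3 1 t0 t1 t2 * XS3 4 p1 p2 p3 * XS3 1 t0 t1 t2) := by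
  have key : (XS3 1 t0 t1 t2 * XS3 4 p1 p2 p3 * XS3 1 t0 t1 t2 * XS3 1 u0 u1 u2 : GG K) * 1 = (XS3 4 p4 p5 p6 * (XS3 1 t0 t1 t2 * XS3 4 p1 p2 p3 * XS3 1 t0 t1 t2)) * 1 := by
    subst hp1 hp2 hp3 hp4 hp5 hp6
    simp only [XS3_1, XS3_4, mul_assoc, t3mc_t_20_21, t3mc_t_20_2, t3mc_t_3_21, t3mc_t_3_2, t3mc_t_20_17, t3mc_t_20_6, t3mc_t_3_17, t3mc_t_3_6, t3mc_t_21_17, t3mc_t_21_6, t3mc_t_2_17, t3mc_t_2_6]
    exact (t3m_rk1t 20 3 (by norm_num) (by first | rfl | ring1 | (field_simp; ring1) | (field_simp; first | done | fail)) (by first | rfl | ring1 | (field_simp; ring1) | (field_simp; first | done | fail)) (t3m_rk1t 21 2 (by norm_num) (by first | rfl | ring1 | (field_simp; ring1) | (field_simp; first | done | fail)) (by first | rfl | ring1 | (field_simp; ring1) | (field_simp; first | done | fail)) (t3m_rk1t 17 6 (by norm_num) (by first | rfl | ring1 | (field_simp;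 ring1) | (field_simp; first | done | fail)) (by first | rfl | ring1 | (field_simp; ring1) | (field_simp; first | done | fail)) rfl)))
  exact (mul_one _).symm.trans (key.trans (mul_one _))

theorem t3mg_ws_s0_2 (t0 t1 t2 u0 u1 u2 : K) {p1 p2 p3 p4 p5 p6 : K} (ht0 : t0 ≠ 0) (ht1 : t1 ≠ 0) (ht2 : t2 ≠ 0) (hp1 : p1 = t0⁻¹) (hp2 : p2 = t1⁻¹) (hp3 : p3 = t2⁻¹) (hp4 : p4 = ((t0⁻¹ * t0⁻¹) * u0)) (hp5 : p5 = ((t1⁻¹ * t1⁻¹) * u1)) (hp6 : p6 = ((t2⁻¹ * t2⁻¹) * u2)) :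
    (XS3 2 t0 t1 t2 * XS3 5 p1 p2 p3 * XS3 2 t0 t1 t2 * XS3 2 u0 u1 u2 : GG K) =
      XS3 5 p4 p5 p6 * (XS3 2 t0 t1 t2 * XS3 5 p1 p2 p3 * XS3 2 t0 t1 t2) := by
  have key : (XS3 2 t0 t1 t2 * XS3 5 p1 p2 p3 * XS3 2 t0 t1 t2 * XS3 2 u0 u1 u2 : GG K) * 1 = (XS3 5 p4 p5 p6 * (XS3 2 t0 t1 t2 * XS3 5 p1 p2 p3 * XS3 2 t0 t1 t2)) * 1 := by
    subst hp1 hp2 hp3 hp4 hp5 hp6
    simp only [XS3_2, XS3_5, mul_assoc, t3mc_t_19_16, t3mc_t_19_7, t3mc_t_4_16, t3mc_t_4_7, t3mc_t_19_15, t3mc_t_19_8, t3mc_t_4_15, t3mc_t_4_8, t3mc_t_16_15, t3mc_t_16_8, t3mc_t_7_15, t3mc_t_7_8]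
    exact (t3m_rk1t 19 4 (by norm_num) (by first | rfl | ring1 | (field_simp; ring1) | (field_simp; first | done | fail)) (by first | rfl | ring1 | (field_simp; ring1) | (field_simp; first | done | fail)) (t3m_rk1t 16 7 (by norm_num) (by first | rfl | ring1 | (field_simp; ring1) | (field_simp; first | done | fail)) (by first | rfl | ring1 | (field_simp; ring1) | (field_simp; first | done | fail)) (t3m_rk1t 15 8 (by norm_num) (by first | rfl | ring1 | (field_simp; ring1) | (field_simp; first | done | fail)) (by first | rfl | ring1 | (field_simp; ring1) | (field_simp; first | done | fail)) rfl)))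
  exact (mul_one _).symm.trans (key.trans (mul_one _))

theorem t3mg_ws_s0_3 (t0 t1 t2 u0 u1 u2 : K) {p1 p2 p3 p4 p5 p6 : K} (ht0 : t0 ≠ 0) (ht1 : t1 ≠ 0) (ht2 : t2 ≠ 0) (hp1 : p1 = t0⁻¹) (hp2 : p2 = t1⁻¹) (hp3 : p3 = t2⁻¹) (hp4 : p4 = ((t0⁻¹ * t0⁻¹) * u0)) (hp5 : p5 = ((t1⁻¹ * t1⁻¹) * u1)) (hp6 : p6 = ((t2⁻¹ * t2⁻¹) * u2)) :
    (XS3 3 t0 t1 t2 * XS3 0 p1 p2 p3 * XS3 3 t0 t1 t2 * XS3 3 u0 u1 u2 : GG K) =
      XS3 0 p4 p5 p6 * (XS3 3 t0 t1 t2 * XS3 0 p1 p2 p3 * XS3 3 t0 t1 t2) := by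
  have key : (XS3 3 t0 t1 t2 * XS3 0 p1 p2 p3 * XS3 3 t0 t1 t2 * XS3 3 u0 u1 u2 : GG K) * 1 = (XS3 0 p4 p5 p6 * (XS3 3 t0 t1 t2 * XS3 0 p1 p2 p3 * XS3 3 t0 t1 t2)) * 1 := by
    subst hp1 hp2 hp3 hp4 hp5 hp6
    simp only [XS3_0, XS3_3, mul_assoc, t3mc_t_5_10, t3mc_t_5_13, t3mc_t_18_10, t3mc_t_18_13, t3mc_t_5_11, t3mc_t_5_12, t3mc_t_18_11, t3mc_t_18_12, t3mc_t_10_11, t3mc_t_10_12, t3mc_t_13_11, t3mc_t_13_12]
    exact (t3m_rk1t 5 18 (by norm_num) (by first | rfl | ring1 | (field_simp; ring1) | (field_simp; first | done | fail)) (by first | rfl | ring1 | (field_simp; ring1) | (field_simp; first | done | fail)) (t3m_rk1t 10 13 (by norm_num) (by first | rfl | ring1 | (field_simp; ring1) | (field_simp; first | done | fail)) (by first | rfl | ring1 | (field_simp; ring1) | (field_simp; first | done | fail)) (t3m_rk1t 11 12 (by norm_num) (by first | rfl | ring1 |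 (field_simp; ring1) | (field_simp; first | done | fail)) (by first | rfl | ring1 | (field_simp; ring1) | (field_simp; first | done | fail)) rfl)))
  exact (mul_one _).symm.trans (key.trans (mul_one _))

theorem t3mg_ws_s0_4 (t0 t1 t2 u0 u1 u2 : K) {p1 p2 p3 p4 p5 p6 : K} (ht0 : t0 ≠ 0) (ht1 : t1 ≠ 0) (ht2 : t2 ≠ 0) (hp1 : p1 = t0⁻¹) (hp2 : p2 = t1⁻¹) (hp3 : p3 = t2⁻¹) (hp4 : p4 = ((t0⁻¹ * t0⁻¹) * u0)) (hp5 : p5 = ((t1⁻¹ * t1⁻¹) * u1)) (hp6 : p6 = ((t2⁻¹ * t2⁻¹) * u2)) :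
    (XS3 4 t0 t1 t2 * XS3 1 p1 p2 p3 * XS3 4 t0 t1 t2 * XS3 4 u0 u1 u2 : GG K) =
      XS3 1 p4 p5 p6 * (XS3 4 t0 t1 t2 * XS3 1 p1 p2 p3 * XS3 4 t0 t1 t2) := by
  have key : (XS3 4 t0 t1 t2 * XS3 1 p1 p2 p3 * XS3 4 t0 t1 t2 * XS3 4 u0 u1 u2 : GG K) * 1 = (XS3 1 p4 p5 p6 * (XS3 4 t0 t1 t2 * XS3 1 p1 p2 p3 * XS3 4 t0 t1 t2)) * 1 := by
    subst hp1 hp2 hp3 hp4 hp5 hp6
    simp only [XS3_1, XS3_4, mul_assoc, t3mc_t_3_2, t3mc_t_3_21, t3mc_t_20_2, t3mc_t_20_21, t3mc_t_3_6, t3mc_t_3_17, t3mc_t_20_6, t3mc_t_20_17, t3mc_t_2_6, t3mc_t_2_17, t3mc_t_21_6, t3mc_t_21_17]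
    exact (t3m_rk1t 3 20 (by norm_num) (by first | rfl | ring1 | (field_simp; ring1) | (field_simp; first | done | fail)) (by first | rfl | ring1 | (field_simp; ring1) | (field_simp; first | done | fail)) (t3m_rk1t 2 21 (by norm_num) (by first | rfl | ring1 | (field_simp; ring1) | (field_simp; first | done | fail)) (by first | rfl | ring1 | (field_simp; ring1) | (field_simp; first | done | fail)) (t3m_rk1t 6 17 (by norm_num) (by first | rfl | ring1 | (field_simp; ring1) | (field_simp; first | done | fail)) (by first | rfl | ring1 | (field_simp; ring1) | (field_simp; first | done | fail)) rfl)))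
  exact (mul_one _).symm.trans (key.trans (mul_one _))

theorem t3mg_ws_s0_5 (t0 t1 t2 u0 u1 u2 : K) {p1 p2 p3 p4 p5 p6 : K} (ht0 : t0 ≠ 0) (ht1 : t1 ≠ 0) (ht2 : t2 ≠ 0) (hp1 : p1 = t0⁻¹) (hp2 : p2 = t1⁻¹) (hp3 : p3 = t2⁻¹) (hp4 : p4 = ((t0⁻¹ * t0⁻¹) * u0)) (hp5 : p5 = ((t1⁻¹ * t1⁻¹) * u1)) (hp6 : p6 = ((t2⁻¹ * t2⁻¹) * u2)) :
    (XS3 5 t0 t1 t2 * XS3 2 p1 p2 p3 * XS3 5 t0 t1 t2 * XS3 5 u0 u1 u2 : GG K) =
      XS3 2 p4 p5 p6 * (XS3 5 t0 t1 t2 * XS3 2 p1 p2 p3 * XS3 5 t0 t1 t2) := by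
  have key : (XS3 5 t0 t1 t2 * XS3 2 p1 p2 p3 * XS3 5 t0 t1 t2 * XS3 5 u0 u1 u2 : GG K) * 1 = (XS3 2 p4 p5 p6 * (XS3 5 t0 t1 t2 * XS3 2 p1 p2 p3 * XS3 5 t0 t1 t2)) * 1 := by
    subst hp1 hp2 hp3 hp4 hp5 hp6
    simp only [XS3_2, XS3_5, mul_assoc, t3mc_t_4_7, t3mc_t_4_16, t3mc_t_19_7, t3mc_t_19_16, t3mc_t_4_8, t3mc_t_4_15, t3mc_t_19_8, t3mc_t_19_15, t3mc_t_7_8, t3mc_t_7_15, t3mc_t_16_8, t3mc_t_16_15]
    exact (t3m_rk1t 4 19 (by norm_num) (by first | rfl | ring1 | (field_simp; ring1) | (field_simp; first | done | fail)) (by first | rfl | ring1 | (field_simp; ring1) | (field_simp; first | done | fail)) (t3m_rk1t 7 16 (by norm_num) (by first | rfl | ring1 | (field_simp; ring1) | (field_simp; first | done | fail)) (by first | rfl | ring1 | (field_simp; ring1) | (field_simp; first | done | fail)) (t3m_rk1t 8 15 (by norm_num) (by first | rfl | ring1 | (field_simp;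 ring1) | (field_simp; first | done | fail)) (by first | rfl | ring1 | (field_simp; ring1) | (field_simp; first | done | fail)) rfl)))
  exact (mul_one _).symm.trans (key.trans (mul_one _))

end Cfsg.Agent.Lib.helper8.T3M
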