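import Mathlib
import Cfsg.Agent.Lib.helper8.T3M.R_adds
import Cfsg.Agent.Lib.helper8.T3M.R_addl
import Cfsg.Agent.Lib.helper8.T3M.R_c_sl0
import Cfsg.Agent.Lib.helper8.T3M.R_c_sl1
import Cfsg.Agent.Lib.helper8.T3M.R_c_ls1
import Cfsg.Agent.Lib.helper8.T3M.R_c_ll1
import Cfsg.Agent.Lib.helper8.T3M.R_c_ls2
import Cfsg.Agent.Lib.helper8.T3M.R_ss1
import Cfsg.Agent.Lib.helper8.T3M.R_ss2
import Cfsg.Agent.Lib.helper8.T3M.R_sl
import Cfsg.Agent.Lib.helper8.T3M.R_ll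
import Cfsg.Agent.Lib.helper8.T3M.R_ls
import Cfsg.Agent.Lib.helper8.T3M.R_ws_s0
import Cfsg.Agent.Lib.helper8.T3M.R_ws_s1
import Cfsg.Agent.Lib.helper8.T3M.R_ws_s2
import Cfsg.Agent.Lib.helper8.T3M.R_ws_s3
import Cfsg.Agent.Lib.helper8.T3M.R_ws_s4
import Cfsg.Agent.Lib.helper8.T3M.R_ws_s5
import Cfsg.Agent.Lib.helper8.T3M.R_ws_l0
import Cfsg.Agent.Lib.helper8.T3M.R_ws_l1
import Cfsg.Agent.Lib.helper8.T3M.R_ws_l2
import Cfsg.Agent.Lib.helper8.T3M.R_ws_l3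
import Cfsg.Agent.Lib.helper8.T3M.R_ws_l4
import Cfsg.Agent.Lib.helper8.T3M.R_ws_l5
import Cfsg.Agent.Lib.helper8.T3M.R_wl_s0
import Cfsg.Agent.Lib.helper8.T3M.R_wl_s1
import Cfsg.Agent.Lib.helper8.T3M.R_wl_s2
import Cfsg.Agent.Lib.helper8.T3M.R_wl_s3
import Cfsg.Agent.Lib.helper8.T3M.R_wl_s4
import Cfsg.Agent.Lib.helper8.T3M.R_wl_s5
import Cfsg.Agent.Lib.helper8.T3M.R_wl_l0
import Cfsg.Agent.Lib.helper8.T3M.R_wl_l1
import Cfsg.Agent.Lib.helper8.T3M.R_wl_l2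
import Cfsg.Agent.Lib.helper8.T3M.R_wl_l3
import Cfsg.Agent.Lib.helper8.T3M.R_wl_l4
import Cfsg.Agent.Lib.helper8.T3M.R_wl_l5

/-!
# Project T3M (matrix side of S2110; designer helper8): the 36 relation families of helper17's `SysT` for the root elements
`XS D k t`, `XL D k c` of `³D₄(q)` in `GG K`, for all `k : ZMod 6` (machine generated from the files `R_*`).
-/

set_option autoImplicit false

namespace Cfsg.Agent.Lib.helper8.T3M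

open Cfsg.Lie Cfsg.Lie.ChevalleyDatum Matrix
open Cfsg.Agent.Lib.helper8
open Cfsg.Agent.Lib.helper23.TD4V
open Cfsg.Agent.Lib.helper17.T3
open Cfsg.Agent.Lib.helper15.St2 Cfsg.Agent.Lib.helper7.Ce

universe u

variable {K : Type u} [Field K] {q : ℕ}

theorem t3m_adds (D : Dat K q) (k : ZMod 6) (s t : K) :
    XS D k s * XS D k t = XS D k (s + t) := by
  fin_cases k
  · exact t3m_adds_0 D s t
  · exact t3m_adds_1 D s t
  · exact t3m_adds_2 D s t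
  · exact t3m_adds_3 D s t
  · exact t3m_adds_4 D s t
  · exact t3m_adds_5 D s t

theorem t3m_addl (D : Dat K q) (k : ZMod 6) (c d : D.Fx) :
    XL D k c * XL D k d = XL D k (c + d) := by
  fin_cases k
  · exact t3m_addl_0 D c d
  · exact t3m_addl_1 D c d
  · exact t3m_addl_2 D c d
  · exact t3m_addl_3 D c d
  · exact t3m_addl_4 D c d
  · exact t3m_addl_5 D c d

theorem t3m_c_sl0 (D : Dat K q) (k : ZMod 6) (s : K) (c : D.Fx) :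
    XS D k s * XL D k c = XL D k c * XS D k s := by
  fin_cases k
  · exact t3m_c_sl0_0 D s c
  · exact t3m_c_sl0_1 D s c
  · exact t3m_c_sl0_2 D s c
  · exact t3m_c_sl0_3 D s c
  · exact t3m_c_sl0_4 D s c
  · exact t3m_c_sl0_5 D s c

theorem t3m_c_sl1 (D : Dat K q) (k : ZMod 6) (s : K) (c : D.Fx) :
    XS D k s * XL D (k + 1) c = XL D (k + 1) c * XS D k s := by
  fin_cases k
  · exact t3m_c_sl1_0 D s c
  · exact t3m_c_sl1_1 D s c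
  · exact t3m_c_sl1_2 D s c
  · exact t3m_c_sl1_3 D s c
  · exact t3m_c_sl1_4 D s c
  · exact t3m_c_sl1_5 D s c

theorem t3m_c_ls1 (D : Dat K q) (k : ZMod 6) (c : D.Fx) (s : K) :
    XL D k c * XS D (k + 1) s = XS D (k + 1) s * XL D k c := by
  fin_cases k
  · exact t3m_c_ls1_0 D c s
  · exact t3m_c_ls1_1 D c s
  · exact t3m_c_ls1_2 D c s
  · exact t3m_c_ls1_3 D c s
  · exact t3m_c_ls1_4 D c s
  · exact t3m_c_ls1_5 D c s

theorem t3m_c_ll1 (D : Dat K q) (k : ZMod 6) (c d : D.Fx) :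
    XL D k c * XL D (k + 1) d = XL D (k + 1) d * XL D k c := by
  fin_cases k
  · exact t3m_c_ll1_0 D c d
  · exact t3m_c_ll1_1 D c d
  · exact t3m_c_ll1_2 D c d
  · exact t3m_c_ll1_3 D c d
  · exact t3m_c_ll1_4 D c d
  · exact t3m_c_ll1_5 D c d

theorem t3m_c_ls2 (D : Dat K q) (k : ZMod 6) (c : D.Fx) (s : K) :
    XL D k c * XS D (k + 2) s = XS D (k + 2) s * XL D k c := by
  fin_cases k
  · exact t3m_c_ls2_0 D c s
  · exact t3m_c_ls2_1 D c s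
  · exact t3m_c_ls2_2 D c s
  · exact t3m_c_ls2_3 D c s
  · exact t3m_c_ls2_4 D c s
  · exact t3m_c_ls2_5 D c s

theorem t3m_ss1 (D : Dat K q) (k : ZMod 6) (s t : K) :
    cm (XS D k s) (XS D (k + 1) t) = XL D k (-(D.cub.tr (s * t))) := by
  fin_cases k
  · exact t3m_ss1_0 D s t
  · exact t3m_ss1_1 D s t
  · exact t3m_ss1_2 D s t
  · exact t3m_ss1_3 D s t
  · exact t3m_ss1_4 D s t
  · exact t3m_ss1_5 D s t

theorem t3m_ss2 (D : Dat K q) (k : ZMod 6) (s t : K) :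
    cm (XS D k s) (XS D (k + 2) t) =
      XL D k (-(D.cub.tr (D.cub.sharp s * t))) * XS D (k + 1) (D.cub.cross s t) * XL D (k + 1) (D.cub.tr (s * D.cub.sharp t)) := by
  fin_cases k
  · exact t3m_ss2_0 D s t
  · exact t3m_ss2_1 D s t
  · exact t3m_ss2_2 D s t
  · exact t3m_ss2_3 D s t
  · exact t3m_ss2_4 D s t
  · exact t3m_ss2_5 D s t

theorem t3m_sl (D : Dat K q) (k : ZMod 6) (s : K) (c : D.Fx) :
    cm (XS D k s) (XL D (k + 2) c) =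
      XL D k (c * D.cub.nm s) * XS D (k + 1) (-(c • D.cub.sharp s)) * XL D (k + 1) (c ^ 2 * D.cub.nm s) * XS D (k + 2) (-(c • s)) := by
  fin_cases k
  · exact t3m_sl_0 D s c
  · exact t3m_sl_1 D s c
  · exact t3m_sl_2 D s c
  · exact t3m_sl_3 D s c
  · exact t3m_sl_4 D s c
  · exact t3m_sl_5 D s c

theorem t3m_ll (D : Dat K q) (k : ZMod 6) (c d : D.Fx) :
    cm (XL D k c) (XL D (k + 2) d) = XL D (k + 1) (c * d) := by
  fin_cases k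
  · exact t3m_ll_0 D c d
  · exact t3m_ll_1 D c d
  · exact t3m_ll_2 D c d
  · exact t3m_ll_3 D c d
  · exact t3m_ll_4 D c d
  · exact t3m_ll_5 D c d

theorem t3m_ls (D : Dat K q) (k : ZMod 6) (c : D.Fx) (t : K) :
    cm (XL D k c) (XS D (k + 3) t) =
      XS D (k + 1) (-(c • t)) * XL D (k + 1) (-(c ^ 2 * D.cub.nm t)) * XS D (k + 2) (c • D.cub.sharp t) * XL D (k + 2) (c * D.cub.nm t) := by
  fin_cases k
  · exact t3m_ls_0 D c t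
  · exact t3m_ls_1 D c t
  · exact t3m_ls_2 D c t
  · exact t3m_ls_3 D c t
  · exact t3m_ls_4 D c t
  · exact t3m_ls_5 D c t

theorem t3m_ws_s0 (D : Dat K q) (k : ZMod 6) (t u : K) (ht : t ≠ 0) :
    cj (XS D k t * XS D (k + 3) t⁻¹ * XS D k t) (XS D k u) = XS D (k + 3) (t⁻¹ ^ 2 * u) := by
  fin_cases k
  · exact t3m_ws_s0_0 D t u ht
  · exact t3m_ws_s0_1 D t u ht
  · exact t3m_ws_s0_2 D t u ht
  · exact t3m_ws_s0_3 D t u ht
  · exact t3m_ws_s0_4 D t u ht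
  · exact t3m_ws_s0_5 D t u ht

theorem t3m_ws_s1 (D : Dat K q) (k : ZMod 6) (t u : K) (ht : t ≠ 0) :
    cj (XS D k t * XS D (k + 3) t⁻¹ * XS D k t) (XS D (k + 1) u) = XS D (k + 2) ((D.cub.nm t)⁻¹ • (t ^ 2 * u)) := by
  fin_cases k
  · exact t3m_ws_s1_0 D t u ht
  · exact t3m_ws_s1_1 D t u ht
  · exact t3m_ws_s1_2 D t u ht
  · exact t3m_ws_s1_3 D t u ht
  · exact t3m_ws_s1_4 D t u ht
  · exact t3m_ws_s1_5 D t u ht

theorem t3m_ws_s2 (D : Dat K q) (k : ZMod 6) (t u : K) (ht : t ≠ 0) :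
    cj (XS D k t * XS D (k + 3) t⁻¹ * XS D k t) (XS D (k + 2) u) = XS D (k + 1) (-(D.cub.nm t • (t⁻¹ ^ 2 * u))) := by
  fin_cases k
  · exact t3m_ws_s2_0 D t u ht
  · exact t3m_ws_s2_1 D t u ht
  · exact t3m_ws_s2_2 D t u ht
  · exact t3m_ws_s2_3 D t u ht
  · exact t3m_ws_s2_4 D t u ht
  · exact t3m_ws_s2_5 D t u ht

theorem t3m_ws_s3 (D : Dat K q) (k : ZMod 6) (t u : K) (ht : t ≠ 0) :
    cj (XS D k t * XS D (k + 3) t⁻¹ * XS D k t) (XS D (k + 3) u) = XS D k (t ^ 2 * u) := by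
  fin_cases k
  · exact t3m_ws_s3_0 D t u ht
  · exact t3m_ws_s3_1 D t u ht
  · exact t3m_ws_s3_2 D t u ht
  · exact t3m_ws_s3_3 D t u ht
  · exact t3m_ws_s3_4 D t u ht
  · exact t3m_ws_s3_5 D t u ht

theorem t3m_ws_s4 (D : Dat K q) (k : ZMod 6) (t u : K) (ht : t ≠ 0) :
    cj (XS D k t * XS D (k + 3) t⁻¹ * XS D k t) (XS D (k + 4) u) = XS D (k + 5) (D.cub.nm t • (t⁻¹ ^ 2 * u)) := by
  fin_cases k
  · exact t3m_ws_s4_0 D t u ht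
  · exact t3m_ws_s4_1 D t u ht
  · exact t3m_ws_s4_2 D t u ht
  · exact t3m_ws_s4_3 D t u ht
  · exact t3m_ws_s4_4 D t u ht
  · exact t3m_ws_s4_5 D t u ht

theorem t3m_ws_s5 (D : Dat K q) (k : ZMod 6) (t u : K) (ht : t ≠ 0) :
    cj (XS D k t * XS D (k + 3) t⁻¹ * XS D k t) (XS D (k + 5) u) = XS D (k + 4) (-((D.cub.nm t)⁻¹ • (t ^ 2 * u))) := by
  fin_cases k
  · exact t3m_ws_s5_0 D t u ht
  · exact t3m_ws_s5_1 D t u ht
  · exact t3m_ws_s5_2 D t u ht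
  · exact t3m_ws_s5_3 D t u ht
  · exact t3m_ws_s5_4 D t u ht
  · exact t3m_ws_s5_5 D t u ht

theorem t3m_ws_l0 (D : Dat K q) (k : ZMod 6) (t : K) (d : D.Fx) (ht : t ≠ 0) :
    cj (XS D k t * XS D (k + 3) t⁻¹ * XS D k t) (XL D k d) = XL D (k + 2) (-((D.cub.nm t)⁻¹ * d)) := by
  fin_cases k
  · exact t3m_ws_l0_0 D t d ht
  · exact t3m_ws_l0_1 D t d ht
  · exact t3m_ws_l0_2 D t d ht
  · exact t3m_ws_l0_3 D t d ht
  · exact t3m_ws_l0_4 D t d ht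
  · exact t3m_ws_l0_5 D t d ht

theorem t3m_ws_l1 (D : Dat K q) (k : ZMod 6) (t : K) (d : D.Fx) (ht : t ≠ 0) :
    cj (XS D k t * XS D (k + 3) t⁻¹ * XS D k t) (XL D (k + 1) d) = XL D (k + 1) d := by
  fin_cases k
  · exact t3m_ws_l1_0 D t d ht
  · exact t3m_ws_l1_1 D t d ht
  · exact t3m_ws_l1_2 D t d ht
  · exact t3m_ws_l1_3 D t d ht
  · exact t3m_ws_l1_4 D t d ht
  · exact t3m_ws_l1_5 D t d ht

theorem t3m_ws_l2 (D : Dat K q) (k : ZMod 6) (t : K) (d : D.Fx) (ht : t ≠ 0) :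
    cj (XS D k t * XS D (k + 3) t⁻¹ * XS D k t) (XL D (k + 2) d) = XL D k (D.cub.nm t * d) := by
  fin_cases k
  · exact t3m_ws_l2_0 D t d ht
  · exact t3m_ws_l2_1 D t d ht
  · exact t3m_ws_l2_2 D t d ht
  · exact t3m_ws_l2_3 D t d ht
  · exact t3m_ws_l2_4 D t d ht
  · exact t3m_ws_l2_5 D t d ht

theorem t3m_ws_l3 (D : Dat K q) (k : ZMod 6) (t : K) (d : D.Fx) (ht : t ≠ 0) :
    cj (XS D k t * XS D (k + 3) t⁻¹ * XS D k t) (XL D (k + 3) d) = XL D (k + 5) (-(D.cub.nm t * d)) := by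
  fin_cases k
  · exact t3m_ws_l3_0 D t d ht
  · exact t3m_ws_l3_1 D t d ht
  · exact t3m_ws_l3_2 D t d ht
  · exact t3m_ws_l3_3 D t d ht
  · exact t3m_ws_l3_4 D t d ht
  · exact t3m_ws_l3_5 D t d ht

theorem t3m_ws_l4 (D : Dat K q) (k : ZMod 6) (t : K) (d : D.Fx) (ht : t ≠ 0) :
    cj (XS D k t * XS D (k + 3) t⁻¹ * XS D k t) (XL D (k + 4) d) = XL D (k + 4) d := by
  fin_cases k
  · exact t3m_ws_l4_0 D t d ht
  · exact t3m_ws_l4_1 D t d ht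
  · exact t3m_ws_l4_2 D t d ht
  · exact t3m_ws_l4_3 D t d ht
  · exact t3m_ws_l4_4 D t d ht
  · exact t3m_ws_l4_5 D t d ht

theorem t3m_ws_l5 (D : Dat K q) (k : ZMod 6) (t : K) (d : D.Fx) (ht : t ≠ 0) :
    cj (XS D k t * XS D (k + 3) t⁻¹ * XS D k t) (XL D (k + 5) d) = XL D (k + 3) ((D.cub.nm t)⁻¹ * d) := by
  fin_cases k
  · exact t3m_ws_l5_0 D t d ht
  · exact t3m_ws_l5_1 D t d ht
  · exact t3m_ws_l5_2 D t d ht
  · exact t3m_ws_l5_3 D t d ht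
  · exact t3m_ws_l5_4 D t d ht
  · exact t3m_ws_l5_5 D t d ht

theorem t3m_wl_s0 (D : Dat K q) (k : ZMod 6) (c : D.Fx) (u : K) (hc : c ≠ 0) :
    cj (XL D k c * XL D (k + 3) c⁻¹ * XL D k c) (XS D k u) = XS D (k + 4) (-(c⁻¹ • u)) := by
  fin_cases k
  · exact t3m_wl_s0_0 D c u hc
  · exact t3m_wl_s0_1 D c u hc
  · exact t3m_wl_s0_2 D c u hc
  · exact t3m_wl_s0_3 D c u hc
  · exact t3m_wl_s0_4 D c u hc
  · exact t3m_wl_s0_5 D c u hc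

theorem t3m_wl_s1 (D : Dat K q) (k : ZMod 6) (c : D.Fx) (u : K) (hc : c ≠ 0) :
    cj (XL D k c * XL D (k + 3) c⁻¹ * XL D k c) (XS D (k + 1) u) = XS D (k + 3) (c⁻¹ • u) := by
  fin_cases k
  · exact t3m_wl_s1_0 D c u hc
  · exact t3m_wl_s1_1 D c u hc
  · exact t3m_wl_s1_2 D c u hc
  · exact t3m_wl_s1_3 D c u hc
  · exact t3m_wl_s1_4 D c u hc
  · exact t3m_wl_s1_5 D c u hc

theorem t3m_wl_s2 (D : Dat K q) (k : ZMod 6) (c : D.Fx) (u : K) (hc : c ≠ 0) :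
    cj (XL D k c * XL D (k + 3) c⁻¹ * XL D k c) (XS D (k + 2) u) = XS D (k + 2) u := by
  fin_cases k
  · exact t3m_wl_s2_0 D c u hc
  · exact t3m_wl_s2_1 D c u hc
  · exact t3m_wl_s2_2 D c u hc
  · exact t3m_wl_s2_3 D c u hc
  · exact t3m_wl_s2_4 D c u hc
  · exact t3m_wl_s2_5 D c u hc

theorem t3m_wl_s3 (D : Dat K q) (k : ZMod 6) (c : D.Fx) (u : K) (hc : c ≠ 0) :
    cj (XL D k c * XL D (k + 3) c⁻¹ * XL D k c) (XS D (k + 3) u) = XS D (k + 1) (-(c • u)) := by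
  fin_cases k
  · exact t3m_wl_s3_0 D c u hc
  · exact t3m_wl_s3_1 D c u hc
  · exact t3m_wl_s3_2 D c u hc
  · exact t3m_wl_s3_3 D c u hc
  · exact t3m_wl_s3_4 D c u hc
  · exact t3m_wl_s3_5 D c u hc

theorem t3m_wl_s4 (D : Dat K q) (k : ZMod 6) (c : D.Fx) (u : K) (hc : c ≠ 0) :
    cj (XL D k c * XL D (k + 3) c⁻¹ * XL D k c) (XS D (k + 4) u) = XS D k (c • u) := by
  fin_cases k
  · exact t3m_wl_s4_0 D c u hc
  · exact t3m_wl_s4_1 D c u hc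
  · exact t3m_wl_s4_2 D c u hc
  · exact t3m_wl_s4_3 D c u hc
  · exact t3m_wl_s4_4 D c u hc
  · exact t3m_wl_s4_5 D c u hc

theorem t3m_wl_s5 (D : Dat K q) (k : ZMod 6) (c : D.Fx) (u : K) (hc : c ≠ 0) :
    cj (XL D k c * XL D (k + 3) c⁻¹ * XL D k c) (XS D (k + 5) u) = XS D (k + 5) u := by
  fin_cases k
  · exact t3m_wl_s5_0 D c u hc
  · exact t3m_wl_s5_1 D c u hc
  · exact t3m_wl_s5_2 D c u hc
  · exact t3m_wl_s5_3 D c u hc
  · exact t3m_wl_s5_4 D c u hc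
  · exact t3m_wl_s5_5 D c u hc

theorem t3m_wl_l0 (D : Dat K q) (k : ZMod 6) (c d : D.Fx) (hc : c ≠ 0) :
    cj (XL D k c * XL D (k + 3) c⁻¹ * XL D k c) (XL D k d) = XL D (k + 3) (c⁻¹ ^ 2 * d) := by
  fin_cases k
  · exact t3m_wl_l0_0 D c d hc
  · exact t3m_wl_l0_1 D c d hc
  · exact t3m_wl_l0_2 D c d hc
  · exact t3m_wl_l0_3 D c d hc
  · exact t3m_wl_l0_4 D c d hc
  · exact t3m_wl_l0_5 D c d hc

theorem t3m_wl_l1 (D : Dat K q) (k : ZMod 6) (c d : D.Fx) (hc : c ≠ 0) :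
    cj (XL D k c * XL D (k + 3) c⁻¹ * XL D k c) (XL D (k + 1) d) = XL D (k + 2) (-(c⁻¹ * d)) := by
  fin_cases k
  · exact t3m_wl_l1_0 D c d hc
  · exact t3m_wl_l1_1 D c d hc
  · exact t3m_wl_l1_2 D c d hc
  · exact t3m_wl_l1_3 D c d hc
  · exact t3m_wl_l1_4 D c d hc
  · exact t3m_wl_l1_5 D c d hc

theorem t3m_wl_l2 (D : Dat K q) (k : ZMod 6) (c d : D.Fx) (hc : c ≠ 0) :
    cj (XL D k c * XL D (k + 3) c⁻¹ * XL D k c) (XL D (k + 2) d) = XL D (k + 1) (c * d) := by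
  fin_cases k
  · exact t3m_wl_l2_0 D c d hc
  · exact t3m_wl_l2_1 D c d hc
  · exact t3m_wl_l2_2 D c d hc
  · exact t3m_wl_l2_3 D c d hc
  · exact t3m_wl_l2_4 D c d hc
  · exact t3m_wl_l2_5 D c d hc

theorem t3m_wl_l3 (D : Dat K q) (k : ZMod 6) (c d : D.Fx) (hc : c ≠ 0) :
    cj (XL D k c * XL D (k + 3) c⁻¹ * XL D k c) (XL D (k + 3) d) = XL D k (c ^ 2 * d) := by
  fin_cases k
  · exact t3m_wl_l3_0 D c d hc
  · exact t3m_wl_l3_1 D c d hc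
  · exact t3m_wl_l3_2 D c d hc
  · exact t3m_wl_l3_3 D c d hc
  · exact t3m_wl_l3_4 D c d hc
  · exact t3m_wl_l3_5 D c d hc

theorem t3m_wl_l4 (D : Dat K q) (k : ZMod 6) (c d : D.Fx) (hc : c ≠ 0) :
    cj (XL D k c * XL D (k + 3) c⁻¹ * XL D k c) (XL D (k + 4) d) = XL D (k + 5) (-(c * d)) := by
  fin_cases k
  · exact t3m_wl_l4_0 D c d hc
  · exact t3m_wl_l4_1 D c d hc
  · exact t3m_wl_l4_2 D c d hc
  · exact t3m_wl_l4_3 D c d hc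
  · exact t3m_wl_l4_4 D c d hc
  · exact t3m_wl_l4_5 D c d hc

theorem t3m_wl_l5 (D : Dat K q) (k : ZMod 6) (c d : D.Fx) (hc : c ≠ 0) :
    cj (XL D k c * XL D (k + 3) c⁻¹ * XL D k c) (XL D (k + 5) d) = XL D (k + 4) (c⁻¹ * d) := by
  fin_cases k
  · exact t3m_wl_l5_0 D c d hc
  · exact t3m_wl_l5_1 D c d hc
  · exact t3m_wl_l5_2 D c d hc
  · exact t3m_wl_l5_3 D c d hc
  · exact t3m_wl_l5_4 D c d hc
  · exact t3m_wl_l5_5 D c d hc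

end Cfsg.Agent.Lib.helper8.T3M
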