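import Mathlib
import Cfsg.Agent.Lib.helper8.T3M.Rel
import Cfsg.Agent.Lib.helper8.ChevTwD4

/-!
# Project T3M (designer helper8): all twelve root groups `XS D k t`, `XL D k c` lie in `twistedD4 K q`
(the four simple families are generators; the others are conjugates under the Weyl elements `ws 0 1`, `wl 2 1`, by the relations of `Rel`).
-/

set_option autoImplicit false

namespace Cfsg.Agent.Lib.helper8.T3M

open Cfsg.Lie Cfsg.Lie.ChevalleyDatum Matrix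
open Cfsg.Agent.Lib.helper8
open Cfsg.Agent.Lib.helper23.TD4V
open Cfsg.Agent.Lib.helper17.T3
open Cfsg.Agent.Lib.helper15.St2 Cfsg.Agent.Lib.helper7.Ce

universe u

variable {K : Type u} [Field K] {q : ℕ}

theorem Dat.ff (D : Dat K q) (t : K) : D.f (D.f t) = t ^ (q ^ 2) := by
  rw [D.hf, D.hf, ← pow_mul, ← sq]

theorem t3m_mem_xs0 (D : Dat K q) (t : K) : XS D 0 t ∈ twistedD4 K q := by
  have h := h8twD4_x3 hB q 18 13 12 (by simp) t
  rw [XS_def, val6_0, XS3_0, D.ff, D.hf]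
  exact h

theorem t3m_mem_xs3 (D : Dat K q) (t : K) : XS D 3 t ∈ twistedD4 K q := by
  have h := h8twD4_x3 hB q 5 10 11 (by simp) (-t)
  rw [XS_def, val6_3, XS3_3]
  have e1 : -(D.f t) = (-t) ^ q := by rw [← D.hf, map_neg]
  have e2 : -(D.f (D.f t)) = (-t) ^ (q ^ 2) := by rw [← D.ff, map_neg, map_neg]
  rw [e1, e2]
  exact h

theorem t3m_mem_xl2 (D : Dat K q) (c : D.Fx) : XL D 2 c ∈ twistedD4 K q := by
  rw [XL_def, val6_2, XL3_2]
  refine h8twD4_x1 hB q 14 (by simp) _ ?_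
  rw [← D.hf, map_neg, D.f_coe]

theorem t3m_mem_xl5 (D : Dat K q) (c : D.Fx) : XL D 5 c ∈ twistedD4 K q := by
  rw [XL_def, val6_5, XL3_5]
  refine h8twD4_x1 hB q 9 (by simp) _ ?_
  rw [← D.hf, D.f_coe]

theorem t3m_mem_of_cj {G : Subgroup (GG K)} {g a r : GG K} (hg : g ∈ G) (ha : a ∈ G) (h : cj g a = r) : r ∈ G := by
  rw [← h]
  unfold cj
  exact mul_mem (mul_mem hg ha) (inv_mem hg)

theorem Dat.nm_one (D : Dat K q) : D.cub.nm 1 = 1 := by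
  apply Subtype.ext
  rw [Dat.cub_nm]
  simp

/-- `ws 0 1 ∈ G` -/
theorem t3m_mem_nA (D : Dat K q) : XS D 0 1 * XS D (0 + 3) 1⁻¹ * XS D 0 1 ∈ twistedD4 K q := by
  have e : (0 : ZMod 6) + 3 = 3 := by decide
  rw [e]
  exact mul_mem (mul_mem (t3m_mem_xs0 D _) (t3m_mem_xs3 D _)) (t3m_mem_xs0 D _)

/-- `wl 2 1 ∈ G` -/
theorem t3m_mem_nB (D : Dat K q) : XL D 2 1 * XL D (2 + 3) 1⁻¹ * XL D 2 1 ∈ twistedD4 K q := by
  have e : (2 : ZMod 6) + 3 = 5 := by decide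
  rw [e]
  exact mul_mem (mul_mem (t3m_mem_xl2 D _) (t3m_mem_xl5 D _)) (t3m_mem_xl2 D _)

theorem t3m_mem_xs2 (D : Dat K q) (t : K) : XS D 2 t ∈ twistedD4 K q := by
  have h := t3m_wl_s4 D 2 1 t one_ne_zero
  have e : (2 : ZMod 6) + 4 = 0 := by decide
  have e'' : ((1 : D.Fx) • t) = t := one_smul _ _
  rw [e, e''] at h
  exact t3m_mem_of_cj (t3m_mem_nB D) (t3m_mem_xs0 D t) h

theorem t3m_mem_xs5 (D : Dat K q) (t : K) : XS D 5 t ∈ twistedD4 K q := by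
  have h := t3m_wl_s1 D 2 1 t one_ne_zero
  have e : (2 : ZMod 6) + 1 = 3 := by decide
  have e' : (2 : ZMod 6) + 3 = 5 := by decide
  have e'' : ((1 : D.Fx)⁻¹ • t) = t := by rw [inv_one, one_smul]
  rw [e, e''] at h
  have h2 := t3m_mem_of_cj (t3m_mem_nB D) (t3m_mem_xs3 D t) h
  rwa [e'] at h2

theorem t3m_mem_xl0 (D : Dat K q) (c : D.Fx) : XL D 0 c ∈ twistedD4 K q := by
  have h := t3m_ws_l2 D 0 1 c one_ne_zero
  have e'' : (D.cub.nm 1 * c) = c := by rw [D.nm_one, one_mul]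
  rw [e''] at h
  have e2 : (0 : ZMod 6) + 2 = 2 := by decide
  exact t3m_mem_of_cj (t3m_mem_nA D) (by rw [e2]; exact t3m_mem_xl2 D c) h

theorem t3m_mem_xl3 (D : Dat K q) (c : D.Fx) : XL D 3 c ∈ twistedD4 K q := by
  have h := t3m_ws_l5 D 0 1 c one_ne_zero
  have e'' : ((D.cub.nm 1)⁻¹ * c) = c := by rw [D.nm_one, inv_one, one_mul]
  rw [e''] at h
  have e5 : (0 : ZMod 6) + 5 = 5 := by decide
  have h2 := t3m_mem_of_cj (t3m_mem_nA D) (by rw [e5]; exact t3m_mem_xl5 D c) h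
  have e : (0 : ZMod 6) + 3 = 3 := by decide
  rwa [e] at h2

theorem t3m_mem_xs1 (D : Dat K q) (t : K) : XS D 1 t ∈ twistedD4 K q := by
  have h := t3m_ws_s2 D 0 1 (-t) one_ne_zero
  have e : -(D.cub.nm 1 • ((1 : K)⁻¹ ^ 2 * -t)) = t := by
    rw [D.nm_one, one_smul]; simp
  rw [e] at h
  have e2 : (0 : ZMod 6) + 2 = 2 := by decide
  have e1 : (0 : ZMod 6) + 1 = 1 := by decide
  have h2 := t3m_mem_of_cj (t3m_mem_nA D) (by rw [e2]; exact t3m_mem_xs2 D (-t)) h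
  rwa [e1] at h2

theorem t3m_mem_xs4 (D : Dat K q) (t : K) : XS D 4 t ∈ twistedD4 K q := by
  have h := t3m_ws_s5 D 0 1 (-t) one_ne_zero
  have e : -((D.cub.nm 1)⁻¹ • ((1 : K) ^ 2 * -t)) = t := by
    rw [D.nm_one, inv_one, one_smul]; simp
  rw [e] at h
  have e5 : (0 : ZMod 6) + 5 = 5 := by decide
  have e4 : (0 : ZMod 6) + 4 = 4 := by decide
  have h2 := t3m_mem_of_cj (t3m_mem_nA D) (by rw [e5]; exact t3m_mem_xs5 D (-t)) h
  rwa [e4] at h2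

theorem t3m_mem_xl1 (D : Dat K q) (c : D.Fx) : XL D 1 c ∈ twistedD4 K q := by
  have h := t3m_wl_l4 D 2 1 (-c) one_ne_zero
  have e : -((1 : D.Fx) * -c) = c := by simp
  rw [e] at h
  have e4 : (2 : ZMod 6) + 4 = 0 := by decide
  have e5 : (2 : ZMod 6) + 5 = 1 := by decide
  have h2 := t3m_mem_of_cj (t3m_mem_nB D) (by rw [e4]; exact t3m_mem_xl0 D (-c)) h
  rwa [e5] at h2

theorem t3m_mem_xl4 (D : Dat K q) (c : D.Fx) : XL D 4 c ∈ twistedD4 K q := by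
  have h := t3m_wl_l1 D 2 1 (-c) one_ne_zero
  have e : -((1 : D.Fx)⁻¹ * -c) = c := by simp
  rw [e] at h
  have e1 : (2 : ZMod 6) + 1 = 3 := by decide
  have e2 : (2 : ZMod 6) + 2 = 4 := by decide
  have h2 := t3m_mem_of_cj (t3m_mem_nB D) (by rw [e1]; exact t3m_mem_xl3 D (-c)) h
  rwa [e2] at h2

theorem t3m_mem_xs (D : Dat K q) (k : ZMod 6) (t : K) : XS D k t ∈ twistedD4 K q := by
  fin_cases k
  · exact t3m_mem_xs0 D t
  · exact t3m_mem_xs1 D t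
  · exact t3m_mem_xs2 D t
  · exact t3m_mem_xs3 D t
  · exact t3m_mem_xs4 D t
  · exact t3m_mem_xs5 D t

theorem t3m_mem_xl (D : Dat K q) (k : ZMod 6) (c : D.Fx) : XL D k c ∈ twistedD4 K q := by
  fin_cases k
  · exact t3m_mem_xl0 D c
  · exact t3m_mem_xl1 D c
  · exact t3m_mem_xl2 D c
  · exact t3m_mem_xl3 D c
  · exact t3m_mem_xl4 D c
  · exact t3m_mem_xl5 D c

end Cfsg.Agent.Lib.helper8.T3M
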