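import Mathlib
import Cfsg.Agent.Lib.helper8.T3M.Mem

/-!
# Project T3M (designer helper8): **the Steinberg system `sysT D : SysT D.cub ↥(twistedD4 K q)` of `³D₄(q)`** (helper17's structure),
with `↑((sysT D).xs k t) = XS D k t`, `↑((sysT D).xl k c) = XL D k c`.
-/

set_option autoImplicit false

namespace Cfsg.Agent.Lib.helper8.T3M

open Cfsg.Lie Cfsg.Lie.ChevalleyDatum Matrix
open Cfsg.Agent.Lib.helper8
open Cfsg.Agent.Lib.helper23.TD4V
open Cfsg.Agent.Lib.helper17.T3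
open Cfsg.Agent.Lib.helper15.St2 Cfsg.Agent.Lib.helper7.Ce

universe u

variable {K : Type u} [Field K] {q : ℕ}

/-- the short root elements in `³D₄(q)` -/
def xsG (D : Dat K q) (k : ZMod 6) (t : K) : ↥(twistedD4 K q) := ⟨XS D k t, t3m_mem_xs D k t⟩

/-- the long root elements in `³D₄(q)` -/
def xlG (D : Dat K q) (k : ZMod 6) (c : D.Fx) : ↥(twistedD4 K q) := ⟨XL D k c, t3m_mem_xl D k c⟩

theorem coe_xsG (D : Dat K q) (k : ZMod 6) (t : K) : ((xsG D k t : ↥(twistedD4 K q)) : GG K) = XS D k t := rfl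

theorem coe_xlG (D : Dat K q) (k : ZMod 6) (c : D.Fx) : ((xlG D k c : ↥(twistedD4 K q)) : GG K) = XL D k c := rfl

theorem coe_cm (G : Subgroup (GG K)) (a b : G) : ((cm a b : G) : GG K) = cm (a : GG K) (b : GG K) := rfl

theorem coe_cj (G : Subgroup (GG K)) (a b : G) : ((cj a b : G) : GG K) = cj (a : GG K) (b : GG K) := rfl

/-- **the Steinberg system of type `³D₄` in `twistedD4 K q`** -/
def sysT (D : Dat K q) : SysT D.cub ↥(twistedD4 K q) where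
  xs := xsG D
  xl := xlG D
  adds k s t := Subtype.ext (t3m_adds D k s t)
  addl k c d := Subtype.ext (t3m_addl D k c d)
  c_sl0 k s c := Subtype.ext (t3m_c_sl0 D k s c)
  c_sl1 k s c := Subtype.ext (t3m_c_sl1 D k s c)
  c_ls1 k c s := Subtype.ext (t3m_c_ls1 D k c s)
  c_ll1 k c d := Subtype.ext (t3m_c_ll1 D k c d)
  c_ls2 k c s := Subtype.ext (t3m_c_ls2 D k c s)
  ss1 k s t := Subtype.ext (t3m_ss1 D k s t)
  ss2 k s t := Subtype.ext (t3m_ss2 D k s t)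
  sl k s c := Subtype.ext (t3m_sl D k s c)
  ll k c d := Subtype.ext (t3m_ll D k c d)
  ls k c t := Subtype.ext (t3m_ls D k c t)
  ws_s0 k t u ht := Subtype.ext (t3m_ws_s0 D k t u ht)
  ws_s1 k t u ht := Subtype.ext (t3m_ws_s1 D k t u ht)
  ws_s2 k t u ht := Subtype.ext (t3m_ws_s2 D k t u ht)
  ws_s3 k t u ht := Subtype.ext (t3m_ws_s3 D k t u ht)
  ws_s4 k t u ht := Subtype.ext (t3m_ws_s4 D k t u ht)
  ws_s5 k t u ht := Subtype.ext (t3m_ws_s5 D k t u ht)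
  ws_l0 k t c ht := Subtype.ext (t3m_ws_l0 D k t c ht)
  ws_l1 k t c ht := Subtype.ext (t3m_ws_l1 D k t c ht)
  ws_l2 k t c ht := Subtype.ext (t3m_ws_l2 D k t c ht)
  ws_l3 k t c ht := Subtype.ext (t3m_ws_l3 D k t c ht)
  ws_l4 k t c ht := Subtype.ext (t3m_ws_l4 D k t c ht)
  ws_l5 k t c ht := Subtype.ext (t3m_ws_l5 D k t c ht)
  wl_s0 k c u hc := Subtype.ext (t3m_wl_s0 D k c u hc)
  wl_s1 k c u hc := Subtype.ext (t3m_wl_s1 D k c u hc)
  wl_s2 k c u hc := Subtype.ext (t3m_wl_s2 D k c u hc)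
  wl_s3 k c u hc := Subtype.ext (t3m_wl_s3 D k c u hc)
  wl_s4 k c u hc := Subtype.ext (t3m_wl_s4 D k c u hc)
  wl_s5 k c u hc := Subtype.ext (t3m_wl_s5 D k c u hc)
  wl_l0 k c d hc := Subtype.ext (t3m_wl_l0 D k c d hc)
  wl_l1 k c d hc := Subtype.ext (t3m_wl_l1 D k c d hc)
  wl_l2 k c d hc := Subtype.ext (t3m_wl_l2 D k c d hc)
  wl_l3 k c d hc := Subtype.ext (t3m_wl_l3 D k c d hc)
  wl_l4 k c d hc := Subtype.ext (t3m_wl_l4 D k c d hc)
  wl_l5 k c d hc := Subtype.ext (t3m_wl_l5 D k c d hc)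

theorem sysT_xs (D : Dat K q) (k : ZMod 6) (t : K) : (((sysT D).xs k t : ↥(twistedD4 K q)) : GG K) = XS D k t := rfl

theorem sysT_xl (D : Dat K q) (k : ZMod 6) (c : D.Fx) : (((sysT D).xl k c : ↥(twistedD4 K q)) : GG K) = XL D k c := rfl

end Cfsg.Agent.Lib.helper8.T3M
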