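import Mathlib
import Cfsg.Agent.Lib.helper8.T3M.Sys
import Cfsg.Agent.Lib.Helper19.T3A.Defs
import Cfsg.Agent.Lib.helper8.ChevGroup
import Cfsg.Agent.Lib.helper8.ChevBN2

/-!
# Project T3M (designer helper8): assembly cores — `(sysT D).gen = ⊤` and `(sysT D).ModelOK` (helper19's interface) from the row statements.
-/

set_option autoImplicit false

namespace Cfsg.Agent.Lib.helper8.T3M

open Cfsg.Lie Cfsg.Lie.ChevalleyDatum Matrix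
open Cfsg.Agent.Lib.helper8
open Cfsg.Agent.Lib.helper23.TD4V
open Cfsg.Agent.Lib.helper17.T3
open Cfsg.Agent.Lib.helper15.St2 Cfsg.Agent.Lib.helper7.Ce
open Cfsg.Agent.Lib.Helper19.T3A

universe u

variable {K : Type u} [Field K] {q : ℕ}

/-- core of `sysT_gen` on the statement of row N1 -/
theorem sysT_gen_core (D : Dat K q)
    (hN1 : twistedD4 K q ≤ Subgroup.closure ({g | ∃ t, g = XS D 0 t} ∪ {g | ∃ t, g = XS D 3 t} ∪
      {g | ∃ c : D.Fx, g = XL D 2 c} ∪ {g | ∃ c : D.Fx, g = XL D 5 c})) :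
    (sysT D).gen = ⊤ := by
  rw [eq_top_iff]
  rintro ⟨g, hg⟩ -
  have key : ∀ x ∈ Subgroup.closure ({g | ∃ t, g = XS D 0 t} ∪ {g | ∃ t, g = XS D 3 t} ∪
      {g | ∃ c : D.Fx, g = XL D 2 c} ∪ {g | ∃ c : D.Fx, g = XL D 5 c}),
      ∃ hx : x ∈ twistedD4 K q, (⟨x, hx⟩ : ↥(twistedD4 K q)) ∈ (sysT D).gen := by
    intro x hx
    induction hx using Subgroup.closure_induction with
    | mem x hx =>
      rcases hx with ((⟨t, rfl⟩ | ⟨t, rfl⟩) | ⟨c, rfl⟩) | ⟨c, rfl⟩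
      · exact ⟨t3m_mem_xs D 0 t, Subgroup.subset_closure (Or.inl ⟨0, t, rfl⟩)⟩
      · exact ⟨t3m_mem_xs D 3 t, Subgroup.subset_closure (Or.inl ⟨3, t, rfl⟩)⟩
      · exact ⟨t3m_mem_xl D 2 c, Subgroup.subset_closure (Or.inr ⟨2, c, rfl⟩)⟩
      · exact ⟨t3m_mem_xl D 5 c, Subgroup.subset_closure (Or.inr ⟨5, c, rfl⟩)⟩
    | one => exact ⟨Subgroup.one_mem _, Subgroup.one_mem _⟩
    | mul x y _ _ ihx ihy =>
      obtain ⟨hx, hx'⟩ := ihx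
      obtain ⟨hy, hy'⟩ := ihy
      exact ⟨Subgroup.mul_mem _ hx hy, Subgroup.mul_mem _ hx' hy'⟩
    | inv x _ ihx =>
      obtain ⟨hx, hx'⟩ := ihx
      exact ⟨Subgroup.inv_mem _ hx, Subgroup.inv_mem _ hx'⟩
  obtain ⟨_, h⟩ := key g (hN1 hg)
  exact h

theorem coe_hs0 (D : Dat K q) (t : K) : (((sysT D).hs 0 t : ↥(twistedD4 K q)) : GG K) =
    XS D 0 t * XS D 3 t⁻¹ * XS D 0 t * (XS D 0 1 * XS D 3 1⁻¹ * XS D 0 1)⁻¹ := rfl

theorem coe_hl2 (D : Dat K q) (c : D.Fx) : (((sysT D).hl 2 c : ↥(twistedD4 K q)) : GG K) =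
    XL D 2 c * XL D 5 c⁻¹ * XL D 2 c * (XL D 2 1 * XL D 5 1⁻¹ * XL D 2 1)⁻¹ := rfl

theorem coe_uprod (D : Dat K q) (s0 : K) (l0 : D.Fx) (s1 : K) (l1 : D.Fx) (s2 : K) (l2 : D.Fx) :
    (((sysT D).uprod s0 l0 s1 l1 s2 l2 : ↥(twistedD4 K q)) : GG K) =
      XS D 0 s0 * XL D 0 l0 * XS D 1 s1 * XL D 1 l1 * XS D 2 s2 * XL D 2 l2 := rfl

/-- core of `sysT_modelOK` on the statements of the rows H1 H2 H3 H4 U1 U2 B1 B2 -/
theorem sysT_modelOK_core (D : Dat K q)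
    (H1 : ∀ {t : K}, t ≠ 0 →
      XS D 0 t * XS D 3 t⁻¹ * XS D 0 t * (XS D 0 1 * XS D 3 1⁻¹ * XS D 0 1)⁻¹ = hJ3 t (D.f t) (D.f (D.f t)))
    (H2 : ∀ {c : D.Fx}, c ≠ 0 →
      XL D 2 c * XL D 5 c⁻¹ * XL D 2 c * (XL D 2 1 * XL D 5 1⁻¹ * XL D 2 1)⁻¹ = hh 14 (c : K))
    (H3 : ∀ {t : K} {c : D.Fx}, t ≠ 0 → c ≠ 0 →
      hJ3 t (D.f t) (D.f (D.f t)) * hh 14 (c : K) = 1 → t = 1 ∧ c = 1)
    (H4 : ∀ {t : K} {c : D.Fx}, t ≠ 0 → c ≠ 0 →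
      hJ3 t (D.f t) (D.f (D.f t)) * hh 14 (c : K) ∈ chevD4.diagonalSubgroup K)
    (U1 : ∀ (s0 : K) (l0 : D.Fx) (s1 : K) (l1 : D.Fx) (s2 : K) (l2 : D.Fx),
      XS D 0 s0 * XL D 0 l0 * XS D 1 s1 * XL D 1 l1 * XS D 2 s2 * XL D 2 l2 = 1 →
      s0 = 0 ∧ l0 = 0 ∧ s1 = 0 ∧ l1 = 0 ∧ s2 = 0 ∧ l2 = 0)
    (U2 : (∀ t, XS D 0 t ∈ chevD4.posUnipotent K) ∧ (∀ t, XS D 1 t ∈ chevD4.posUnipotent K) ∧
      (∀ t, XS D 2 t ∈ chevD4.posUnipotent K) ∧ (∀ c, XL D 0 c ∈ chevD4.posUnipotent K) ∧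
      (∀ c, XL D 1 c ∈ chevD4.posUnipotent K) ∧ (∀ c, XL D 2 c ∈ chevD4.posUnipotent K))
    (B1 : XS D 3 1 ∉ chevD4.borelSubgroup K)
    (B2 : XL D 5 (1 : D.Fx) ∉ chevD4.borelSubgroup K) :
    (sysT D).ModelOK := by
  obtain ⟨us0, us1, us2, ul0, ul1, ul2⟩ := U2
  -- the Borel subgroup of the system lies in `B`
  have hBor : ∀ g ∈ (sysT D).Bor, (g : GG K) ∈ chevD4.borelSubgroup K := by
    have hle : (sysT D).Bor ≤ (chevD4.borelSubgroup K).comap (twistedD4 K q).subtype := by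
      unfold SysT.Bor
      refine sup_le ?_ ?_
      · unfold SysT.Tor
        rw [Subgroup.closure_le]
        rintro g ⟨t, c, ht, hc, rfl⟩
        show (((sysT D).hs 0 t * (sysT D).hl 2 c : ↥(twistedD4 K q)) : GG K) ∈ chevD4.borelSubgroup K
        rw [Subgroup.coe_mul, coe_hs0, coe_hl2, H1 ht, H2 hc]
        exact h8H_le_B chevD4 (H4 ht hc)
      · unfold SysT.U SysT.UU
        rw [Subgroup.closure_le]
        rintro g (⟨k, t, hk, rfl⟩ | ⟨k, c, hk, rfl⟩)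
        · show XS D k t ∈ chevD4.borelSubgroup K
          rcases hk with rfl | rfl | rfl
          · exact h8U_le_B chevD4 (us0 t)
          · exact h8U_le_B chevD4 (us1 t)
          · exact h8U_le_B chevD4 (us2 t)
        · show XL D k c ∈ chevD4.borelSubgroup K
          rcases hk with rfl | rfl | rfl
          · exact h8U_le_B chevD4 (ul0 c)
          · exact h8U_le_B chevD4 (ul1 c)
          · exact h8U_le_B chevD4 (ul2 c)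
    intro g hg
    exact hle hg
  refine ⟨?_, fun h => B1 (hBor _ h), fun h => B2 (hBor _ h)⟩
  intro t c s0 l0 s1 l1 s2 l2 ht hc h
  have h' := congrArg (fun g : ↥(twistedD4 K q) => (g : GG K)) h
  simp only [Subgroup.coe_mul, Subgroup.coe_one] at h'
  rw [coe_hs0, coe_hl2, coe_uprod, H1 ht, H2 hc] at h'
  -- `h * u = 1` with `h ∈ H`, `u ∈ U`
  set hT : GG K := hJ3 t (D.f t) (D.f (D.f t)) * hh 14 (c : K) with hTdef
  set uU : GG K := XS D 0 s0 * XL D 0 l0 * XS D 1 s1 * XL D 1 l1 * XS D 2 s2 * XL D 2 l2 with hUdef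
  have hTH : hT ∈ chevD4.diagonalSubgroup K := H4 ht hc
  have hUU : uU ∈ chevD4.posUnipotent K :=
    mul_mem (mul_mem (mul_mem (mul_mem (mul_mem (us0 _) (ul0 _)) (us1 _)) (ul1 _)) (us2 _)) (ul2 _)
  have hu : uU = hT⁻¹ := eq_inv_of_mul_eq_one_right h'
  have hbot : uU ∈ chevD4.posUnipotent K ⊓ chevD4.diagonalSubgroup K :=
    Subgroup.mem_inf.mpr ⟨hUU, by rw [hu]; exact inv_mem hTH⟩
  rw [h8_U_inf_H chevD4 hB, Subgroup.mem_bot] at hbot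
  have hT1 : hT = 1 := by
    rw [hbot, mul_one] at h'
    exact h'
  obtain ⟨e1, e2⟩ := H3 ht hc hT1
  obtain ⟨r1, r2, r3, r4, r5, r6⟩ := U1 s0 l0 s1 l1 s2 l2 hbot
  exact ⟨e1, e2, r1, r2, r3, r4, r5, r6⟩

end Cfsg.Agent.Lib.helper8.T3M
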