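import Mathlib
import Cfsg.Agent.Lib.helper8.T3M.Defs
import Cfsg.Agent.Lib.helper8.ChevBN4
import Cfsg.Agent.Lib.helper8.ChevBNAll2
import Cfsg.Agent.Lib.helper8.ChevTwH1
import Cfsg.Agent.Lib.Helper26.TD4VJ0

/-!
# Project T3M (designer helper8): second writer of the rows H4 U2 B2 (own names)
-/

set_option autoImplicit false

namespace Cfsg.Agent.Lib.helper8.T3M

open Cfsg.Lie Cfsg.Lie.ChevalleyDatum Matrix
open Cfsg.Agent.Lib.helper8
open Cfsg.Agent.Lib.helper23.TD4V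

universe u

variable {K : Type u} [Field K] {q : ℕ}

theorem t3m_hh_mem_H (r : ℕ) (hr : r < 24) {c : K} (hc : c ≠ 0) : (hh r c : GG K) ∈ chevD4.diagonalSubgroup K := by
  have hr' : r < chevD4.nroots := by
    have : chevD4.nroots = 24 := by decide
    omega
  exact h8hU_mem_H chevD4 hB r hr' c hc

theorem t3m_tor_mem_H_h8 (D : Dat K q) {t : K} {c : D.Fx} (ht : t ≠ 0) (hc : c ≠ 0) :
    hJ3 t (D.f t) (D.f (D.f t)) * hh 14 (c : K) ∈ chevD4.diagonalSubgroup K := by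
  unfold hJ3
  exact mul_mem (mul_mem (mul_mem (t3m_hh_mem_H 18 (by norm_num) ht) (t3m_hh_mem_H 13 (by norm_num) (D.f_ne_zero ht)))
    (t3m_hh_mem_H 12 (by norm_num) (D.f_ne_zero (D.f_ne_zero ht)))) (t3m_hh_mem_H 14 (by norm_num) (D.coe_ne_zero hc))

theorem t3m_X_mem_U (r : ℕ) (hr : chevD4.IsPosRoot r) (t : K) : (X r t : GG K) ∈ chevD4.posUnipotent K :=
  h8xU_mem_U chevD4 hB r hr t

theorem t3m_pos_mem_U_h8 (D : Dat K q) :
    (∀ t, XS D 0 t ∈ chevD4.posUnipotent K) ∧ (∀ t, XS D 1 t ∈ chevD4.posUnipotent K) ∧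
    (∀ t, XS D 2 t ∈ chevD4.posUnipotent K) ∧ (∀ c, XL D 0 c ∈ chevD4.posUnipotent K) ∧
    (∀ c, XL D 1 c ∈ chevD4.posUnipotent K) ∧ (∀ c, XL D 2 c ∈ chevD4.posUnipotent K) := by
  have p : ∀ r, 12 ≤ r → r < 24 → chevD4.IsPosRoot r := by
    intro r h1 h2
    interval_cases r <;> decide +kernel
  refine ⟨fun t => ?_, fun t => ?_, fun t => ?_, fun c => ?_, fun c => ?_, fun c => ?_⟩
  · rw [XS_def, val6_0, XS3_0]
    exact mul_mem (mul_mem (t3m_X_mem_U 18 (p 18 (by norm_num) (by norm_num)) _)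
      (t3m_X_mem_U 13 (p 13 (by norm_num) (by norm_num)) _)) (t3m_X_mem_U 12 (p 12 (by norm_num) (by norm_num)) _)
  · rw [XS_def, val6_1, XS3_1]
    exact mul_mem (mul_mem (t3m_X_mem_U 20 (p 20 (by norm_num) (by norm_num)) _)
      (t3m_X_mem_U 21 (p 21 (by norm_num) (by norm_num)) _)) (t3m_X_mem_U 17 (p 17 (by norm_num) (by norm_num)) _)
  · rw [XS_def, val6_2, XS3_2]
    exact mul_mem (mul_mem (t3m_X_mem_U 19 (p 19 (by norm_num) (by norm_num)) _)
      (t3m_X_mem_U 16 (p 16 (by norm_num) (by norm_num)) _)) (t3m_X_mem_U 15 (p 15 (by norm_num) (by norm_num)) _)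
  · rw [XL_def, val6_0, XL3_0]
    exact t3m_X_mem_U 22 (p 22 (by norm_num) (by norm_num)) _
  · rw [XL_def, val6_1, XL3_1]
    exact t3m_X_mem_U 23 (p 23 (by norm_num) (by norm_num)) _
  · rw [XL_def, val6_2, XL3_2]
    exact t3m_X_mem_U 14 (p 14 (by norm_num) (by norm_num)) _

theorem t3m_bn_b_h8 (D : Dat K q) : XL D 5 (1 : D.Fx) ∉ chevD4.borelSubgroup K := by
  have hD : chevD4 ∈ [chevG2, chevB2, chevD4, chevF4, chevE6, chevE7, chevE8] := by simp
  have hA := h8reflAll chevD4 hD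
  have hBN := h8bn_all chevD4 hD
  have hW := h8bn2_all chevD4 hD
  have h := h8xneg_not_mem_B (F := K) chevD4 hB hA hBN hW 14 (by decide +kernel) 1 one_ne_zero
  rw [td4vj0_negIdx 14 (by norm_num)] at h
  rw [XL_def, val6_5, XL3_5]
  exact h

end Cfsg.Agent.Lib.helper8.T3M
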