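import Mathlib
import Cfsg.Agent.Lib.helper8.T3M.Defs
import Cfsg.Agent.Lib.helper8.ChevTwD4

/-!
# Project T3M (designer helper8): `twistedD4 K q` is generated by the four simple families (second writer of row N1, own name)
-/

set_option autoImplicit false

namespace Cfsg.Agent.Lib.helper8.T3M

open Cfsg.Lie Cfsg.Lie.ChevalleyDatum Matrix
open Cfsg.Agent.Lib.helper8
open Cfsg.Agent.Lib.helper23.TD4V

universe u

variable {K : Type u} [Field K] {q : ℕ}

theorem t3m_gen_h8 (D : Dat K q) :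
    twistedD4 K q ≤ Subgroup.closure ({g | ∃ t, g = XS D 0 t} ∪ {g | ∃ t, g = XS D 3 t} ∪
      {g | ∃ c : D.Fx, g = XL D 2 c} ∪ {g | ∃ c : D.Fx, g = XL D 5 c}) := by
  unfold twistedD4 ChevalleyDatum.genSubgroup
  rw [Subgroup.closure_le]
  rintro g ⟨w, hw, hg⟩
  have hgw : g = h8wordU chevD4 hB w := by
    apply Units.ext
    rw [h8wordU_val]
    exact hg
  have hff : ∀ t : K, D.f (D.f t) = t ^ (q ^ 2) := fun t => by rw [D.hf, D.hf, ← pow_mul, ← sq]
  apply Subgroup.subset_closure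
  rcases hw with ⟨t, ht, r, hr, rfl⟩ | ⟨t, rs, hrs, rfl⟩
  · have htF : t ∈ D.Fx := by rw [D.mem_Fx, D.hf]; exact ht
    simp only [List.mem_cons, List.mem_singleton, List.not_mem_nil, or_false] at hr
    rw [h8wordU_one] at hgw
    rcases hr with rfl | rfl
    · -- `X 14 t = XL D 2 (-t)`
      left; right
      refine ⟨-⟨t, htF⟩, ?_⟩
      rw [hgw, XL_def, val6_2, XL3_2]
      show h8xU chevD4 hB d4p2 t = X 14 (-((-(⟨t, htF⟩ : D.Fx) : D.Fx) : K))
      rw [Subfield.coe_neg, neg_neg]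
      rfl
    · right
      refine ⟨⟨t, htF⟩, ?_⟩
      rw [hgw, XL_def, val6_5, XL3_5]
      rfl
  · simp only [List.mem_cons, List.mem_singleton, List.not_mem_nil, or_false] at hrs
    rw [h8wordU_three] at hgw
    rcases hrs with rfl | rfl
    · left; left; left
      refine ⟨t, ?_⟩
      rw [hgw, XS_def, val6_0, XS3_0, hff, D.hf]
      rfl
    · left; left; right
      refine ⟨-t, ?_⟩
      rw [hgw, XS_def, val6_3, XS3_3, hff, D.hf]
      have e1 : -((-t) ^ q) = t ^ q := by rw [← D.hf, map_neg, neg_neg, D.hf]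
      have e2 : -((-t) ^ (q ^ 2)) = t ^ (q ^ 2) := by rw [← hff, map_neg, map_neg, neg_neg, hff]
      rw [neg_neg, e1, e2]
      rfl

end Cfsg.Agent.Lib.helper8.T3M
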