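import Mathlib
import Cfsg.Agent.Lib.helper8.T3M.Rk1

/-!
# Project T3M (designer helper8): the torus elements `hs 0 t`, `hl 2 c` of `sysT D` (second writer of rows H1 H2, own names)
-/

set_option autoImplicit false
set_option linter.unusedSimpArgs false

namespace Cfsg.Agent.Lib.helper8.T3M

open Cfsg.Lie Cfsg.Lie.ChevalleyDatum Matrix
open Cfsg.Agent.Lib.helper8
open Cfsg.Agent.Lib.helper23.TD4V

universe u

variable {K : Type u} [Field K] {q : ℕ}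

/-- `n_r(a) n_r(1)⁻¹ = h_r(a)` -/
theorem t3m_rk1_h (r r' : ℕ) (hrr : r + r' = 23) {a b a1 b1 : K} (ha : a ≠ 0) (hb : b = -a⁻¹) (ha1 : a1 = 1)
    (hb1 : b1 = -1) :
    (X r a * X r' b * X r a * (X r a1 * X r' b1 * X r a1)⁻¹ : GG K) = hh r a := by
  have hr : r < 24 := by omega
  have e : r' = 23 - r := by omega
  subst e hb ha1 hb1
  obtain ⟨φ, hU, hL, hD⟩ := phi_root (K := K) r hr
  have h1 := h8slD_eq a ha
  have h2 := h8slD_eq (1 : K) one_ne_zero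
  rw [h8slD_one, one_mul, inv_one] at h2
  rw [← hD a ha, ← hU, ← hU, ← hL, ← hL, ← map_mul, ← map_mul, ← map_mul, ← map_mul, ← map_inv, ← map_mul,
    ← h1, ← h2, mul_inv_cancel_right]

/-- elements of different root `SL₂`'s commute (when the rule says so) -/
theorem t3m_commute_of {r s : ℕ} (h : ∀ t u : K, (X s u * X r t : GG K) = X r t * X s u) (t u : K) :
    Commute (X r t : GG K) (X s u) := (h t u).symm

section blocks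

variable {G : Type*} [Group G]

theorem t3m_comm3 {P P' Q Q' R R' : G} (h1 : Commute P' Q') (h2 : Commute P' R') (h3 : Commute P' R)
    (h4 : Commute P' Q) (h5 : Commute Q' R') (h6 : Commute Q' R) :
    P * Q * R * (P' * Q' * R')⁻¹ = (P * P'⁻¹) * (Q * Q'⁻¹) * (R * R'⁻¹) := by
  have e1 : (P' * Q' * R')⁻¹ = R'⁻¹ * Q'⁻¹ * P'⁻¹ := by rw [_root_.mul_inv_rev, _root_.mul_inv_rev, mul_assoc]
  rw [e1]
  have c1 : Commute P'⁻¹ Q'⁻¹ := (h1.inv_left).inv_right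
  have c2 : Commute P'⁻¹ R'⁻¹ := (h2.inv_left).inv_right
  have c3 : Commute P'⁻¹ R := h3.inv_left
  have c4 : Commute P'⁻¹ Q := h4.inv_left
  have c5 : Commute Q'⁻¹ R'⁻¹ := (h5.inv_left).inv_right
  have c6 : Commute Q'⁻¹ R := h6.inv_left
  calc P * Q * R * (R'⁻¹ * Q'⁻¹ * P'⁻¹) = P * Q * R * (P'⁻¹ * (R'⁻¹ * Q'⁻¹)) := by
        rw [(c2.mul_right c1).eq]
    _ = P * (Q * (R * P'⁻¹)) * (R'⁻¹ * Q'⁻¹) := by simp only [mul_assoc]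
    _ = P * (Q * (P'⁻¹ * R)) * (R'⁻¹ * Q'⁻¹) := by rw [c3.eq]
    _ = P * ((Q * P'⁻¹) * R) * (R'⁻¹ * Q'⁻¹) := by simp only [mul_assoc]
    _ = P * ((P'⁻¹ * Q) * R) * (R'⁻¹ * Q'⁻¹) := by rw [c4.eq]
    _ = (P * P'⁻¹) * Q * R * (R'⁻¹ * Q'⁻¹) := by simp only [mul_assoc]
    _ = (P * P'⁻¹) * Q * R * (Q'⁻¹ * R'⁻¹) := by rw [c5.eq]
    _ = (P * P'⁻¹) * (Q * (R * Q'⁻¹)) * R'⁻¹ := by simp only [mul_assoc]
    _ = (P * P'⁻¹) * (Q * (Q'⁻¹ * R)) * R'⁻¹ := by rw [c6.eq]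
    _ = (P * P'⁻¹) * (Q * Q'⁻¹) * (R * R'⁻¹) := by simp only [mul_assoc]

end blocks

/-- the three commuting `SL₂`-blocks of `ws 0` -/
theorem t3m_ws0_blocks (a0 a1 a2 b0 b1 b2 : K) :
    (XS3 0 a0 a1 a2 * XS3 3 b0 b1 b2 * XS3 0 a0 a1 a2 : GG K) =
      (X 18 a0 * X 5 (-b0) * X 18 a0) * (X 13 a1 * X 10 (-b1) * X 13 a1) * (X 12 a2 * X 11 (-b2) * X 12 a2) := by
  have key : (XS3 0 a0 a1 a2 * XS3 3 b0 b1 b2 * XS3 0 a0 a1 a2 : GG K) * 1 =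
      ((X 18 a0 * X 5 (-b0) * X 18 a0) * (X 13 a1 * X 10 (-b1) * X 13 a1) * (X 12 a2 * X 11 (-b2) * X 12 a2)) * 1 := by
    simp only [XS3_0, XS3_3, mul_assoc, t3mc_t_18_13, t3mc_t_18_10, t3mc_t_5_13, t3mc_t_5_10, t3mc_t_18_12, t3mc_t_18_11,
      t3mc_t_5_12, t3mc_t_5_11, t3mc_t_13_12, t3mc_t_13_11, t3mc_t_10_12, t3mc_t_10_11]
  exact (mul_one _).symm.trans (key.trans (mul_one _))

theorem t3m_hs0_h8 (D : Dat K q) {t : K} (ht : t ≠ 0) :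
    XS D 0 t * XS D 3 t⁻¹ * XS D 0 t * (XS D 0 1 * XS D 3 1⁻¹ * XS D 0 1)⁻¹ = hJ3 t (D.f t) (D.f (D.f t)) := by
  simp only [XS_def, val6_0, val6_3]
  rw [t3m_ws0_blocks, t3m_ws0_blocks]
  have c : ∀ {r s : ℕ} (_ : ∀ t u : K, (X s u * X r t : GG K) = X r t * X s u) (a b a' b' : K) (r' s' : ℕ)
      (_ : ∀ t u : K, (X s' u * X r t : GG K) = X r t * X s' u)
      (_ : ∀ t u : K, (X s u * X r' t : GG K) = X r' t * X s u)
      (_ : ∀ t u : K, (X s' u * X r' t : GG K) = X r' t * X s' u),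
      Commute (X r a * X r' b * X r a : GG K) (X s a' * X s' b' * X s a') := by
    intro r s h1 a b a' b' r' s' h2 h3 h4
    have k1 := t3m_commute_of h1
    have k2 := t3m_commute_of h2
    have k3 := t3m_commute_of h3
    have k4 := t3m_commute_of h4
    have l1 : ∀ x, Commute (X r x : GG K) (X s a' * X s' b' * X s a') := fun x =>
      ((k1 x a').mul_right (k2 x b')).mul_right (k1 x a')
    have l2 : ∀ x, Commute (X r' x : GG K) (X s a' * X s' b' * X s a') := fun x =>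
      ((k3 x a').mul_right (k4 x b')).mul_right (k3 x a')
    exact ((l1 a).mul_left (l2 b)).mul_left (l1 a)
  rw [t3m_comm3
    (c td4vc_c_18_13 _ _ _ _ 5 10 td4vc_c_18_10 td4vc_c_5_13 td4vc_c_5_10)
    (c td4vc_c_18_12 _ _ _ _ 5 11 td4vc_c_18_11 td4vc_c_5_12 td4vc_c_5_11)
    (c td4vc_c_18_12 _ _ _ _ 5 11 td4vc_c_18_11 td4vc_c_5_12 td4vc_c_5_11)
    (c td4vc_c_18_13 _ _ _ _ 5 10 td4vc_c_18_10 td4vc_c_5_13 td4vc_c_5_10)
    (c td4vc_c_13_12 _ _ _ _ 10 11 td4vc_c_13_11 td4vc_c_10_12 td4vc_c_10_11)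
    (c td4vc_c_13_12 _ _ _ _ 10 11 td4vc_c_13_11 td4vc_c_10_12 td4vc_c_10_11)]
  have f1 : D.f 1 = 1 := map_one _
  rw [t3m_rk1_h 18 5 (by norm_num) ht rfl rfl (by rw [inv_one]),
    t3m_rk1_h 13 10 (by norm_num) (D.f_ne_zero ht) (by rw [map_inv₀]) f1 (by rw [inv_one, f1]),
    t3m_rk1_h 12 11 (by norm_num) (D.f_ne_zero (D.f_ne_zero ht)) (by rw [map_inv₀, map_inv₀]) (by rw [f1, f1])
      (by rw [inv_one, f1, f1])]
  rfl

theorem t3m_hl2_h8 (D : Dat K q) {c : D.Fx} (hc : c ≠ 0) :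
    XL D 2 c * XL D 5 c⁻¹ * XL D 2 c * (XL D 2 1 * XL D 5 1⁻¹ * XL D 2 1)⁻¹ = hh 14 (c : K) := by
  simp only [XL_def, val6_2, val6_5, XL3_2, XL3_5]
  have hc' : (c : K) ≠ 0 := D.coe_ne_zero hc
  -- `n_14(-c) n_14(-1)⁻¹ = h_14(-c) h_14(-1)⁻¹ = h_14(c)`
  have h1 : (X 14 (-(c : K)) * X 9 ((c⁻¹ : D.Fx) : K) * X 14 (-(c : K)) * (X 14 1 * X 9 (-1) * X 14 1)⁻¹ : GG K) =
      hh 14 (-(c : K)) :=
    t3m_rk1_h 14 9 (by norm_num) (neg_ne_zero.2 hc') (by rw [Subfield.coe_inv, inv_neg, neg_neg]) rfl rfl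
  have h2 : (X 14 (-((1 : D.Fx) : K)) * X 9 (((1 : D.Fx)⁻¹ : D.Fx) : K) * X 14 (-((1 : D.Fx) : K)) *
      (X 14 1 * X 9 (-1) * X 14 1)⁻¹ : GG K) = hh 14 (-(1 : K)) :=
    t3m_rk1_h 14 9 (by norm_num) (by simp) (by simp) rfl rfl
  have e : ∀ A B N : GG K, A * N⁻¹ = hh 14 (-(c : K)) → B * N⁻¹ = hh 14 (-(1 : K)) →
      A * B⁻¹ = hh 14 (-(c : K)) * (hh 14 (-(1 : K)))⁻¹ := by
    intro A B N hA hB
    rw [← hA, ← hB]; group
  rw [e _ _ _ h1 h2]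
  obtain ⟨φ, -, -, hD⟩ := phi_root (K := K) 14 (by norm_num)
  rw [← hD _ (neg_ne_zero.2 hc'), ← hD _ (neg_ne_zero.2 one_ne_zero), ← hD _ hc', ← map_inv, ← map_mul]
  congr 1
  have e1 : (-(c : K)) = c * (-1) := by ring
  rw [e1, h8slD_mul _ _ hc' (neg_ne_zero.2 one_ne_zero), mul_inv_cancel_right]

end Cfsg.Agent.Lib.helper8.T3M
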