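import Mathlib
import Cfsg.Agent.Lib.helper8.T3M.Defs
import Cfsg.Agent.Lib.helper8.ChevTwH1
import Cfsg.Agent.Lib.helper8.ChevBNAll2

/-!
# Project T3M (designer helper8): injectivity of `(t, c) ↦ hJ3 t (f t) (f² t) * hh 14 c` (second writer of row H3, own name)
-/

set_option autoImplicit false

namespace Cfsg.Agent.Lib.helper8.T3M

open Cfsg.Lie Cfsg.Lie.ChevalleyDatum Matrix
open Cfsg.Agent.Lib.helper8
open Cfsg.Agent.Lib.helper23.TD4V

universe u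

variable {K : Type u} [Field K] {q : ℕ}

theorem t3m_tor_inj_h8 (D : Dat K q) {t : K} {c : D.Fx} (ht : t ≠ 0) (hc : c ≠ 0)
    (h : hJ3 t (D.f t) (D.f (D.f t)) * hh 14 (c : K) = 1) : t = 1 ∧ c = 1 := by
  have hD : chevD4 ∈ [chevG2, chevB2, chevD4, chevF4, chevE6, chevE7, chevE8] := by simp
  have hA := h8reflAll chevD4 hD
  have hW := h8bn2_all chevD4 hD
  have hn : chevD4.nroots = 24 := by decide
  have l18 : 18 < chevD4.nroots := by rw [hn]; norm_num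
  have l13 : 13 < chevD4.nroots := by rw [hn]; norm_num
  have l12 : 12 < chevD4.nroots := by rw [hn]; norm_num
  have l14 : 14 < chevD4.nroots := by rw [hn]; norm_num
  have hc' : (c : K) ≠ 0 := D.coe_ne_zero hc
  have hft : D.f t ≠ 0 := D.f_ne_zero ht
  have hfft : D.f (D.f t) ≠ 0 := D.f_ne_zero hft
  have m1 := h8hU_mem_H chevD4 hB 18 l18 t ht
  have m2 := h8hU_mem_H chevD4 hB 13 l13 (D.f t) hft
  have m3 := h8hU_mem_H chevD4 hB 12 l12 (D.f (D.f t)) hfft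
  have m4 := h8hU_mem_H chevD4 hB 14 l14 (c : K) hc'
  have hchi : ∀ r < chevD4.nroots,
      t ^ (h8K chevD4 18 r) * (D.f t) ^ (h8K chevD4 13 r) * (D.f (D.f t)) ^ (h8K chevD4 12 r) *
        (c : K) ^ (h8K chevD4 14 r) = 1 := by
    intro r hr
    have e := h8chi_one (K := K) chevD4 hB hA hW r hr
    rw [← h] at e
    unfold hJ3 hh at e
    rw [h8chi_mul chevD4 hB hA hW _ _ (Subgroup.mul_mem _ (Subgroup.mul_mem _ m1 m2) m3) m4 r hr,
      h8chi_mul chevD4 hB hA hW _ _ (Subgroup.mul_mem _ m1 m2) m3 r hr,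
      h8chi_mul chevD4 hB hA hW _ _ m1 m2 r hr,
      h8chi_hU chevD4 hB hA hW 18 l18 t ht r hr, h8chi_hU chevD4 hB hA hW 13 l13 _ hft r hr,
      h8chi_hU chevD4 hB hA hW 12 l12 _ hfft r hr, h8chi_hU chevD4 hB hA hW 14 l14 _ hc' r hr] at e
    exact e
  have k1 : h8K chevD4 18 18 = 2 ∧ h8K chevD4 13 18 = 0 ∧ h8K chevD4 12 18 = 0 ∧ h8K chevD4 14 18 = -1 ∧
      h8K chevD4 18 14 = -1 ∧ h8K chevD4 13 14 = -1 ∧ h8K chevD4 12 14 = -1 ∧ h8K chevD4 14 14 = 2 := by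
    decide +kernel
  obtain ⟨a1, a2, a3, a4, b1, b2, b3, b4⟩ := k1
  have e18 := hchi 18 l18
  have e14 := hchi 14 l14
  rw [a1, a2, a3, a4] at e18
  rw [b1, b2, b3, b4] at e14
  simp only [zpow_zero, mul_one, _root_.zpow_neg_one] at e18 e14
  -- `t ^ 2 = c`, `c ^ 2 = t * f t * f² t`
  have E1 : t ^ 2 = (c : K) := by
    have h1 : t ^ (2 : ℤ) * (c : K)⁻¹ = 1 := e18
    rw [mul_inv_eq_one₀ hc'] at h1
    exact_mod_cast h1
  have E2 : (c : K) ^ 2 = t * D.f t * D.f (D.f t) := by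
    have h1 : t⁻¹ * (D.f t)⁻¹ * (D.f (D.f t))⁻¹ * (c : K) ^ (2 : ℤ) = 1 := e14
    have h2 : (c : K) ^ (2 : ℤ) = t * D.f t * D.f (D.f t) := by
      have h3 : (c : K) ^ (2 : ℤ) = (t * D.f t * D.f (D.f t)) * (t⁻¹ * (D.f t)⁻¹ * (D.f (D.f t))⁻¹ * (c : K) ^ (2 : ℤ)) := by
        field_simp
      rw [h3, h1, mul_one]
    exact_mod_cast h2
  have E3 : (D.f t) ^ 2 = (c : K) := by rw [← map_pow, E1, D.f_coe]
  have E4 : (D.f (D.f t)) ^ 2 = (c : K) := by rw [← map_pow, E3, D.f_coe]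
  have E5 : (c : K) ^ 4 = (c : K) ^ 3 := by
    calc (c : K) ^ 4 = ((c : K) ^ 2) ^ 2 := by ring
      _ = (t * D.f t * D.f (D.f t)) ^ 2 := by rw [E2]
      _ = t ^ 2 * (D.f t) ^ 2 * (D.f (D.f t)) ^ 2 := by ring
      _ = (c : K) ^ 3 := by rw [E1, E3, E4]; ring
  have hc1 : (c : K) = 1 := by
    have h3 : (c : K) ^ 3 ≠ 0 := pow_ne_zero _ hc'
    have : (c : K) ^ 3 * (c : K) = (c : K) ^ 3 * 1 := by
      calc (c : K) ^ 3 * (c : K) = (c : K) ^ 4 := by ring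
        _ = (c : K) ^ 3 := E5
        _ = (c : K) ^ 3 * 1 := (mul_one _).symm
    exact mul_left_cancel₀ h3 this
  rw [hc1] at E1 E2
  have ht2 : (t - 1) * (t + 1) = 0 := by
    have e : (t - 1) * (t + 1) = t ^ 2 - 1 := by ring
    rw [e, E1, sub_self]
  refine ⟨?_, Subtype.ext hc1⟩
  rcases mul_eq_zero.1 ht2 with h1 | h1
  · exact sub_eq_zero.1 h1
  · have htm : t = -1 := eq_neg_of_add_eq_zero_left h1
    rw [htm, map_neg, map_neg, map_one, map_one] at E2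
    have : (1 : K) = -1 := by
      have h5 : (1 : K) ^ 2 = -1 * -1 * -1 := E2
      rw [one_pow] at h5
      calc (1 : K) = -1 * -1 * -1 := h5
        _ = -1 := by ring
    rw [htm, ← this]

end Cfsg.Agent.Lib.helper8.T3M
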