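import Mathlib
import Cfsg.Agent.Lib.helper8.T3MColl
import Cfsg.Agent.Lib.helper8.T3M.Defs

/-!
# Project T3M (matrix side of S2110; designer helper8): generic identities, family `uprod (normal form of the product of the six positive root elements)` (machine generated)

Identities in `D₄(K)` between the orbit products `XS3 k a b c` (three INDEPENDENT parameters) and the long root elements `XL3 k c`;
the parameters of the result are variables `p_i` with hypotheses `p_i = …`.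
Specialised at `(a, b, c) = (t, f t, f (f t))` they give the relations of helper17's `SysT` for `³D₄(q)` (files `R_*`).
-/

set_option autoImplicit false
set_option linter.unusedSimpArgs false
set_option linter.unnecessarySeqFocus false
set_option linter.unreachableTactic false
set_option linter.unusedTactic false
set_option linter.unusedVariables false
set_option maxRecDepth 4000

namespace Cfsg.Agent.Lib.helper8.T3M

open Cfsg.Lie Cfsg.Lie.ChevalleyDatum Matrix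
open Cfsg.Agent.Lib.helper8
open Cfsg.Agent.Lib.helper23.TD4V

universe u

variable {K : Type u} [Field K]

attribute [local irreducible] X

set_option maxHeartbeats 1600000 in
theorem t3mg_uprod (s0 s1 s2 l0 t0 t1 t2 l1 u0 u1 u2 l2 : K) {p1 p2 p3 p4 p5 p6 p7 p8 p9 p10 p11 p12 : K} (hp1 : p1 = s0) (hp2 : p2 = s1) (hp3 : p3 = s2) (hp4 : p4 = (-l2)) (hp5 : p5 = (-u0)) (hp6 : p6 = u1) (hp7 : p7 = u2) (hp8 : p8 = (-t1)) (hp9 : p9 = (-t2)) (hp10 : p10 = t0) (hp11 : p11 = l0) (hp12 : p12 = ((-((-l2) * l0)) + ((u1 * (-t1)) + ((u2 * (-t2)) + (((-u0) * t0) + l1))))) :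
    (XS3 0 s0 s1 s2 * XL3 0 l0 * XS3 1 t0 t1 t2 * XL3 1 l1 * XS3 2 u0 u1 u2 * XL3 2 l2 : GG K) =
      XA p1 p2 p3 * (X 14 p4 * (XAB p5 p6 p7 * (X2AB p8 p9 p10 * (X 22 p11 * X 23 p12)))) := by
  have key : (XS3 0 s0 s1 s2 * XL3 0 l0 * XS3 1 t0 t1 t2 * XL3 1 l1 * XS3 2 u0 u1 u2 * XL3 2 l2 : GG K) * 1 = (XA p1 p2 p3 * (X 14 p4 * (XAB p5 p6 p7 * (X2AB p8 p9 p10 * (X 22 p11 * X 23 p12))))) * 1 := by
    subst hp1 hp2 hp3 hp4 hp5 hp6 hp7 hp8 hp9 hp10 hp11 hp12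
    simp only [XS3_0, XS3_1, XS3_2, XL3_0, XL3_1, XL3_2, XA, XAB, X2AB, mul_assoc, t3mc_t_12_14, t3mc_t_12_15, t3mc_t_12_16, t3mc_t_12_17, t3mc_t_12_19, t3mc_t_12_20, t3mc_t_12_21, t3mc_t_12_22, t3mc_t_12_23, t3mc_t_13_12, t3mc_t_13_14, t3mc_t_13_15, t3mc_t_13_16, t3mc_t_13_17, t3mc_t_13_19, t3mc_t_13_20, t3mc_t_13_21, t3mc_t_13_22, t3mc_t_13_23, t3mc_t_14_15, t3mc_t_14_16, t3mc_t_14_17, t3mc_t_14_19, t3mc_t_14_20, t3mc_t_14_21, t3mc_t_14_22, t3mc_t_14_23, t3mc_t_15_17, t3mc_t_15_20, t3mc_t_15_21, t3mc_t_15_22, t3mc_t_15_23, t3mc_t_16_15, t3mc_t_16_17, t3mc_t_16_20, t3mc_t_16_21, t3mc_t_16_22, t3mc_t_16_23, t3mc_t_17_22, t3mc_t_17_23, t3mc_t_18_12, t3mc_t_18_13, t3mc_t_18_14, t3mc_t_18_15, t3mc_t_18_16, t3mc_t_18_17, t3mc_t_18_19, t3mc_t_18_20, t3mc_t_18_21, t3mc_t_18_22, t3mc_t_18_23, t3mc_t_19_15, t3mc_t_19_16, t3mc_t_19_17, t3mc_t_19_20, t3mc_t_19_21, t3mc_t_19_22, t3mc_t_19_23, t3mc_t_20_17, t3mc_t_20_21,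 t3mc_t_20_22, t3mc_t_20_23, t3mc_t_21_17, t3mc_t_21_22, t3mc_t_21_23, t3mc_t_22_23, t3mc_m_12, t3mc_m_13, t3mc_m_14, t3mc_m_15, t3mc_m_16, t3mc_m_17, t3mc_m_18, t3mc_m_19, t3mc_m_20, t3mc_m_21, t3mc_m_22, t3mc_m_23] <;>
    repeat (first
      | with_reducible rfl
      | refine t3mc_cs (by first | rfl | ring1 | (field_simp; ring1) | (field_simp; first | done | fail)) ?_
      | refine t3mc_skL (by first | rfl | ring1 | (field_simp; ring1) | (field_simp; first | done | fail)) ?_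
      | refine t3mc_skR (by first | rfl | ring1 | (field_simp; ring1) | (field_simp; first | done | fail)) ?_)
  exact (mul_one _).symm.trans (key.trans (mul_one _))

end Cfsg.Agent.Lib.helper8.T3M
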