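import Mathlib
import Cfsg.Agent.Lib.helper8.T3M.G_uprod
import Cfsg.Agent.Lib.helper8.TDMU1

/-!
# Project T3M (designer helper8): uniqueness of the six coordinates of `uprod` (second writer of row U1, own names)
-/

set_option autoImplicit false

namespace Cfsg.Agent.Lib.helper8.T3M

open Cfsg.Lie Cfsg.Lie.ChevalleyDatum Matrix
open Cfsg.Agent.Lib.helper8
open Cfsg.Agent.Lib.helper23.TD4V
open Cfsg.Agent.Lib.helper8.TDM

universe u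

variable {K : Type u} [Field K] {q : ℕ}

theorem t3m_uprod_inj_h8 (D : Dat K q) (s0 : K) (l0 : D.Fx) (s1 : K) (l1 : D.Fx) (s2 : K) (l2 : D.Fx)
    (h : XS D 0 s0 * XL D 0 l0 * XS D 1 s1 * XL D 1 l1 * XS D 2 s2 * XL D 2 l2 = 1) :
    s0 = 0 ∧ l0 = 0 ∧ s1 = 0 ∧ l1 = 0 ∧ s2 = 0 ∧ l2 = 0 := by
  simp only [XS_def, XL_def, val6_0, val6_1, val6_2] at h
  rw [t3mg_uprod s0 (D.f s0) (D.f (D.f s0)) (l0 : K) s1 (D.f s1) (D.f (D.f s1)) (l1 : K)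
    s2 (D.f s2) (D.f (D.f s2)) (l2 : K) rfl rfl rfl rfl rfl rfl rfl rfl rfl rfl rfl rfl] at h
  have h0 : (1 : GG K) = XA 0 0 0 * (X 14 0 * (XAB 0 0 0 * (X2AB 0 0 0 * (X 22 0 * X 23 0)))) := by
    simp only [XA, XAB, X2AB, t3mc_zero, mul_one]
  rw [h0] at h
  obtain ⟨a1, -, -, c1, b1, -, -, -, -, d3, c2, c3⟩ := tdmu1_inj12 _ _ _ _ _ _ _ _ _ _ _ _ _ _ _ _ _ _ _ _ _ _ _ _ h
  have e2 : (l2 : K) = 0 := neg_eq_zero.1 c1
  have es2 : s2 = 0 := neg_eq_zero.1 b1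
  have es1 : s1 = 0 := d3
  rw [e2, es2, es1, c2] at c3
  simp only [map_zero, neg_zero, mul_zero, zero_mul, zero_add, add_zero] at c3
  exact ⟨a1, Subtype.ext c2, es1, Subtype.ext c3, es2, Subtype.ext e2⟩

end Cfsg.Agent.Lib.helper8.T3M
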