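import Mathlib
import Cfsg.Agent.Lib.helper8.T3M.AsmCore
import Cfsg.Agent.Lib.helper8.T3M.Gen
import Cfsg.Agent.Lib.helper8.T3M.Tor
import Cfsg.Agent.Lib.helper8.T3M.TorInj
import Cfsg.Agent.Lib.helper8.T3M.Easy
import Cfsg.Agent.Lib.helper8.T3M.UInj
import Cfsg.Agent.Lib.helper23.T3MB1

/-!
# Project T3M (designer helper8): **the deliverables of the matrix side of S2110**

For every `D : Dat K q` (no finiteness): `sysT D : SysT D.cub ↥(twistedD4 K q)` (file `Sys`), `sysT_gen D : (sysT D).gen = ⊤`,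
`sysT_modelOK D : (sysT D).ModelOK` (helper19's interface of T3A).
-/

set_option autoImplicit false

namespace Cfsg.Agent.Lib.helper8.T3M

open Cfsg.Lie Cfsg.Lie.ChevalleyDatum Matrix
open Cfsg.Agent.Lib.helper8
open Cfsg.Agent.Lib.helper23.TD4V
open Cfsg.Agent.Lib.helper17.T3
open Cfsg.Agent.Lib.Helper19.T3A

universe u

variable {K : Type u} [Field K] {q : ℕ}

/-- **the system generates `³D₄(q)`** -/
theorem sysT_gen (D : Dat K q) : (sysT D).gen = ⊤ := sysT_gen_core D (t3m_gen_h8 D)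

/-- **the system is a model** (helper19's `SysT.ModelOK`) -/
theorem sysT_modelOK (D : Dat K q) : (sysT D).ModelOK :=
  sysT_modelOK_core D (fun ht => t3m_hs0_h8 D ht) (fun hc => t3m_hl2_h8 D hc)
    (fun ht hc h => t3m_tor_inj_h8 D ht hc h) (fun ht hc => t3m_tor_mem_H_h8 D ht hc)
    (t3m_uprod_inj_h8 D) (t3m_pos_mem_U_h8 D) (t3m_bn_a D) (t3m_bn_b_h8 D)

/-- the packaged statement for the final file of S2110 -/
theorem exists_sysT (D : Dat K q) :
    ∃ S : SysT D.cub ↥(twistedD4 K q), S.gen = ⊤ ∧ S.ModelOK ∧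
      (∀ k t, ((S.xs k t : ↥(twistedD4 K q)) : GG K) = XS D k t) ∧
      (∀ k c, ((S.xl k c : ↥(twistedD4 K q)) : GG K) = XL D k c) :=
  ⟨sysT D, sysT_gen D, sysT_modelOK D, fun _ _ => rfl, fun _ _ => rfl⟩

end Cfsg.Agent.Lib.helper8.T3M
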